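/-
Small tools for the local analysis of the simple groups of order 7920: free actions of elements of
prime order, cosets as conjugates, and elements normalizing very small subgroups.
-/
import Mathlib
import Cfsg.Agent.Lib.SmallGroups.Basic

set_option autoImplicit false
set_option linter.style.haveILetI false

namespace Cfsg.Agent.Lib.Order7920

open Subgroup MulAction

variable {G : Type*} [Group G]

section Action

variable {X : Type*} [MulAction G X] [Finite X] {g : G} {p : ℕ}

/-- An element of prime exponent moving every point of an invariant set. -/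
theorem dvd_card_of_free [hp : Fact p.Prime] (hg : g ^ p = 1) {S : Set X}
    (hS : ∀ a ∈ S, g • a ∈ S) (hfree : ∀ a ∈ S, g • a ≠ a) : p ∣ Nat.card S := by
  classical
  haveI := Fintype.ofFinite S
  let f : Function.End S := fun a => ⟨g • a.1, hS a.1 a.2⟩
  have hf : ∀ (n : ℕ) (a : S), ((f ^ n) a).1 = g ^ n • a.1 := by
    intro n
    induction n with
    | zero =>
      intro a
      rw [pow_zero, pow_zero, one_smul]
      rfl
    | succ n ih =>
      intro a
      rw [pow_succ, pow_succ, mul_smul]
      show ((f ^ n) (f a)).1 = _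
      rw [ih]
  have hf1 : f ^ p ^ 1 = 1 := funext fun a => Subtype.ext (by rw [hf, pow_one, hg, one_smul]; rfl)
  have h := Equiv.Perm.card_fixedPoints_modEq hf1
  have h0 : Fintype.card (Function.fixedPoints f) = 0 :=
    Fintype.card_eq_zero_iff.mpr ⟨fun a => hfree a.1.1 a.1.2 (congrArg Subtype.val a.2)⟩
  rw [h0] at h
  rw [Nat.card_eq_fintype_card]
  exact Nat.modEq_zero_iff_dvd.mp h

omit [Finite X] in
theorem smul_fixedBy_compl (g : G) {a : X} (h : ¬ g • a = a) : ¬ g • g • a = g • a :=
  fun e => h (smul_left_cancel g e)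

/-- Fixed and moved points. -/
theorem card_fixedBy_add_moved (g : G) :
    Nat.card (fixedBy X g) + Nat.card {a : X | g • a ≠ a} = Nat.card X := by
  classical
  haveI := Fintype.ofFinite X
  rw [← Nat.card_sum]
  exact Nat.card_congr (Equiv.sumCompl fun a : X => g • a = a)

/-- The number of fixed points of an element of prime exponent. -/
theorem card_fixedBy_modEq [Fact p.Prime] (hg : g ^ p = 1) :
    Nat.card (fixedBy X g) % p = Nat.card X % p := by
  have h1 := card_fixedBy_add_moved (X := X) g
  obtain ⟨k, hk⟩ := dvd_card_of_free (p := p) hg (S := {a : X | g • a ≠ a})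
    (fun a ha => smul_fixedBy_compl g ha) (fun a ha => ha)
  rw [← h1, hk, Nat.add_mul_mod_self_left]

/-- If `z` commutes with `y` and fixes every fixed point of `y`, then the prime exponent of `y`
divides the number of points moved by `z`. -/
theorem dvd_card_moved [Fact p.Prime] {y z : G} (hy : y ^ p = 1) (hc : Commute y z)
    (hfix : ∀ a : X, y • a = a → z • a = a) : p ∣ Nat.card {a : X | z • a ≠ a} := by
  refine dvd_card_of_free hy (fun a ha => ?_) fun a ha e => ha (hfix a e)
  intro e
  apply ha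
  rw [smul_smul, ← hc.eq, mul_smul] at e
  exact smul_left_cancel y e

end Action

/-- Fixing a coset. -/
theorem smul_mk_eq_iff (H : Subgroup G) (h g : G) :
    h • (g : G ⧸ H) = g ↔ g⁻¹ * h * g ∈ H := by
  change ((h * g : G) : G ⧸ H) = g ↔ _
  rw [eq_comm, QuotientGroup.eq, mul_assoc]

/-- The conjugate of `t` attached to a coset of its centralizer or normalizer. -/
noncomputable def conjAt {H : Subgroup G} (t : G) (a : G ⧸ H) : G := a.out * t * a.out⁻¹

theorem orderOf_conjAt {H : Subgroup G} (t : G) (a : G ⧸ H) :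
    orderOf (conjAt t a) = orderOf t := by
  rw [conjAt, ← MulAut.conj_apply, MulEquiv.orderOf_eq]

/-- Fixing a coset of a centralizer is commuting with the conjugate. -/
theorem smul_eq_iff_commute (t h : G) (a : G ⧸ centralizer ({t} : Set G)) :
    h • a = a ↔ Commute h (conjAt t a) := by
  conv_lhs => rw [← QuotientGroup.out_eq' a]
  rw [smul_mk_eq_iff, mem_centralizer_singleton_iff, conjAt, Commute, SemiconjBy]
  constructor <;> intro e
  · calc h * (a.out * t * a.out⁻¹) = a.out * (a.out⁻¹ * h * a.out * t) * a.out⁻¹ := by group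
      _ = a.out * (t * (a.out⁻¹ * h * a.out)) * a.out⁻¹ := by rw [e]
      _ = a.out * t * a.out⁻¹ * h := by group
  · calc a.out⁻¹ * h * a.out * t = a.out⁻¹ * (h * (a.out * t * a.out⁻¹)) * a.out := by group
      _ = a.out⁻¹ * (a.out * t * a.out⁻¹ * h) * a.out := by rw [e]
      _ = t * (a.out⁻¹ * h * a.out) := by group

theorem conjAt_injective (t : G) :
    Function.Injective (conjAt t : G ⧸ centralizer ({t} : Set G) → G) := by
  intro a b h
  rw [← QuotientGroup.out_eq' a, ← QuotientGroup.out_eq' b, QuotientGroup.eq,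
    mem_centralizer_singleton_iff]
  calc a.out⁻¹ * b.out * t = a.out⁻¹ * conjAt t b * b.out := by rw [conjAt]; group
    _ = a.out⁻¹ * conjAt t a * b.out := by rw [h]
    _ = t * (a.out⁻¹ * b.out) := by rw [conjAt]; group

/-- The base point carries `t`. -/
theorem conjAt_one (t : G) :
    conjAt t (((1 : G) : G ⧸ centralizer ({t} : Set G))) = t := by
  set a := ((1 : G) : G ⧸ centralizer ({t} : Set G))
  have h : (1 : G)⁻¹ * a.out ∈ centralizer ({t} : Set G) :=
    QuotientGroup.eq.mp (QuotientGroup.out_eq' a).symm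
  rw [inv_one, one_mul, mem_centralizer_singleton_iff] at h
  rw [conjAt, h, mul_inv_cancel_right]

/-- An element fixing a coset of `N(⟨z⟩)` normalizes the attached conjugate. -/
theorem conj_mem_of_smul_eq (z h : G) (a : G ⧸ normalizer ((zpowers z : Subgroup G) : Set G))
    (ha : h • a = a) : h * conjAt z a * h⁻¹ ∈ zpowers (conjAt z a) := by
  rw [← QuotientGroup.out_eq' a, smul_mk_eq_iff] at ha
  obtain ⟨n, hn⟩ := mem_zpowers_iff.mp ((mem_normalizer_iff.mp ha z).mp (mem_zpowers z))
  refine mem_zpowers_iff.mpr ⟨n, ?_⟩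
  rw [conjAt, conj_zpow, hn]
  group

/-- The attached subgroup determines the coset of `N(⟨z⟩)`. -/
theorem eq_of_zpowers_conjAt_eq (z : G) [Finite G]
    {a b : G ⧸ normalizer ((zpowers z : Subgroup G) : Set G)}
    (h : conjAt z a ∈ zpowers (conjAt z b)) : a = b := by
  obtain ⟨n, hn⟩ := mem_zpowers_iff.mp h
  rw [← QuotientGroup.out_eq' a, ← QuotientGroup.out_eq' b, eq_comm, QuotientGroup.eq,
    mem_normalizer_iff_map_conj_eq, MonoidHom.map_zpowers]
  have hz : MulAut.conj (b.out⁻¹ * a.out) z = z ^ n := by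
    have e := congrArg (MulAut.conj b.out⁻¹) hn
    rw [map_zpow] at e
    simp only [conjAt, MulAut.conj_apply] at e ⊢
    calc b.out⁻¹ * a.out * z * (b.out⁻¹ * a.out)⁻¹
        = b.out⁻¹ * (a.out * z * a.out⁻¹) * b.out⁻¹⁻¹ := by group
      _ = (b.out⁻¹ * (b.out * z * b.out⁻¹) * b.out⁻¹⁻¹) ^ n := e.symm
      _ = z ^ n := by group
  refine Subgroup.eq_of_le_of_card_ge ?_ ?_
  · rw [zpowers_le]
    exact mem_zpowers_iff.mpr ⟨n, hz.symm⟩
  · rw [Nat.card_zpowers, Nat.card_zpowers]
    exact (MulEquiv.orderOf_eq (MulAut.conj (b.out⁻¹ * a.out)) z).ge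

/-- A subgroup divisible by a prime has an element of that order. -/
theorem exists_mem_orderOf {H : Subgroup G} [Finite H] (p : ℕ) [Fact p.Prime]
    (h : p ∣ Nat.card H) : ∃ z ∈ H, orderOf z = p := by
  obtain ⟨⟨z, hz⟩, hz'⟩ := exists_prime_orderOf_dvd_card' (G := H) p h
  exact ⟨z, hz, by rwa [Subgroup.orderOf_mk] at hz'⟩

/-- The elements of a cyclic group of order three. -/
theorem mem_zpowers_three {k w : G} (hk : orderOf k = 3) (hw : w ∈ zpowers k) :
    w = 1 ∨ w = k ∨ w = k⁻¹ := by
  obtain ⟨n, rfl⟩ := mem_zpowers_iff.mp hw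
  have h3 : k ^ (3 : ℤ) = 1 := by
    rw [show (3 : ℤ) = ((3 : ℕ) : ℤ) from rfl, zpow_natCast, ← hk, pow_orderOf_eq_one]
  rw [← Int.mul_ediv_add_emod n 3, zpow_add, zpow_mul, h3, one_zpow, one_mul]
  have h2 : n % 3 = 0 ∨ n % 3 = 1 ∨ n % 3 = 2 := by omega
  rcases h2 with h | h | h <;> rw [h]
  · exact Or.inl (zpow_zero _)
  · exact Or.inr (Or.inl (zpow_one _))
  · refine Or.inr (Or.inr (eq_inv_of_mul_eq_one_left ?_))
    rw [← zpow_add_one, show (2 : ℤ) + 1 = 3 from rfl, h3]

/-- An element of odd exponent normalizing a group of order three centralizes it. -/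
theorem commute_of_normalizes_three {x k : G} {n : ℕ} (hn : Odd n) (hx : x ^ n = 1)
    (hk : orderOf k = 3) (h : x * k * x⁻¹ ∈ zpowers k) : Commute x k := by
  rcases mem_zpowers_three hk h with h | h | h
  · rw [conj_eq_one_iff] at h
    exact h ▸ Commute.one_right x
  · exact mul_inv_eq_iff_eq_mul.mp h
  · exfalso
    have h2 : x * (x * k * x⁻¹) * x⁻¹ = k := by
      rw [h, show x * k⁻¹ * x⁻¹ = (x * k * x⁻¹)⁻¹ by group, h, inv_inv]
    have h2' : Commute (x ^ 2) k := by
      refine mul_inv_eq_iff_eq_mul.mp ?_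
      calc x ^ 2 * k * (x ^ 2)⁻¹ = x * (x * k * x⁻¹) * x⁻¹ := by rw [pow_two]; group
        _ = k := h2
    obtain ⟨j, rfl⟩ := hn
    have hxk : Commute x k := by
      have hx2 : (x ^ 2) ^ (j + 1) = x := by
        rw [← pow_mul, show 2 * (j + 1) = (2 * j + 1) + 1 by ring, pow_succ, hx, one_mul]
      exact hx2 ▸ h2'.pow_left (j + 1)
    have h3 : k⁻¹ = k := by rw [← h, hxk.eq, mul_inv_cancel_right]
    have h4 : k ^ 2 = 1 := by rw [pow_two]; nth_rw 1 [← h3]; exact inv_mul_cancel k
    have := orderOf_dvd_of_pow_eq_one h4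
    rw [hk] at this
    exact absurd this (by decide)

/-- An element of prime order at least five normalizing a group of order nine centralizes it. -/
theorem commute_of_normalizes_nine {P : Subgroup G} (hP : Nat.card P = 9) {x : G} {p : ℕ}
    [hp : Fact p.Prime] (hp5 : 5 ≤ p) (hx : orderOf x = p)
    (hn : x ∈ normalizer (P : Set G)) : ∀ v ∈ P, Commute x v := by
  haveI : Finite P := Nat.finite_of_card_ne_zero (by omega)
  let c : ConjAct G := ConjAct.toConjAct x
  have hc : c ^ p = 1 := by rw [← map_pow, ← hx, pow_orderOf_eq_one, map_one]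
  letI : MulAction (normalizer (P : Set G)) P :=
    { smul := fun g v => ⟨g * v * g⁻¹, (mem_normalizer_iff.mp g.2 _).mp v.2⟩
      one_smul := fun v => Subtype.ext (by show (1 : G) * v * (1 : G)⁻¹ = v; simp)
      mul_smul := fun g h v => Subtype.ext (by
        show ((g : G) * h) * v * ((g : G) * h)⁻¹ = g * (h * v * (h : G)⁻¹) * (g : G)⁻¹
        group) }
  set g : normalizer (P : Set G) := ⟨x, hn⟩
  have hg : g ^ p = 1 := Subtype.ext (by
    rw [Subgroup.coe_pow, Subgroup.coe_one, ← hx, pow_orderOf_eq_one])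
  have h1 := card_fixedBy_add_moved (X := P) g
  have h2 := dvd_card_of_free (p := p) hg (S := {v : P | g • v ≠ v})
    (fun v hv => smul_fixedBy_compl g hv) (fun v hv => hv)
  let F : Subgroup G := P ⊓ centralizer ({x} : Set G)
  have hF : Nat.card (fixedBy P g) = Nat.card F :=
    Nat.card_congr
      { toFun := fun v => ⟨v.1.1, v.1.2, mem_centralizer_singleton_iff.mpr
          (by
            have h : x * v.1.1 * x⁻¹ = v.1.1 := congrArg Subtype.val v.2
            exact (mul_inv_eq_iff_eq_mul.mp h).symm)⟩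
        invFun := fun v => ⟨⟨v.1, v.2.1⟩, Subtype.ext (by
          show x * v.1 * x⁻¹ = v.1
          rw [← (mem_centralizer_singleton_iff.mp v.2.2), mul_inv_cancel_right])⟩
        left_inv := fun v => rfl
        right_inv := fun v => rfl }
  have hd : Nat.card F ∣ 9 := hP ▸ card_dvd_of_le inf_le_left
  rw [hF, hP] at h1
  have hF9 : Nat.card F = 9 := by
    have h3 : Nat.card F ∈ Nat.divisors 9 := Nat.mem_divisors.mpr ⟨hd, by norm_num⟩
    rw [show Nat.divisors 9 = {1, 3, 9} by decide, Finset.mem_insert, Finset.mem_insert,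
      Finset.mem_singleton] at h3
    rcases h3 with h | h | h
    · exfalso
      have h4 : p ∣ 8 := by rwa [show Nat.card {v : P | g • v ≠ v} = 8 by omega] at h2
      have := (Nat.prime_dvd_prime_iff_eq hp.out Nat.prime_two).mp
        (hp.out.dvd_of_dvd_pow (n := 3) h4)
      omega
    · exfalso
      have h4 : p ∣ 2 * 3 := by rwa [show Nat.card {v : P | g • v ≠ v} = 6 by omega] at h2
      rcases hp.out.dvd_mul.mp h4 with h5 | h5 <;>
        have := Nat.le_of_dvd (by norm_num) h5 <;> omega
    · exact h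
  have heq : F = P := Subgroup.eq_of_le_of_card_ge inf_le_left (by rw [hF9, hP])
  intro v hv
  rw [← heq] at hv
  exact (mem_centralizer_singleton_iff.mp hv.2).symm

/-- The attached conjugate at a given representative. -/
theorem conjAt_mk_mem (z g : G) :
    conjAt z ((g : G ⧸ normalizer ((zpowers z : Subgroup G) : Set G))) ∈
      zpowers (g * z * g⁻¹) := by
  set a := (g : G ⧸ normalizer ((zpowers z : Subgroup G) : Set G))
  have hn : g⁻¹ * a.out ∈ normalizer ((zpowers z : Subgroup G) : Set G) :=
    QuotientGroup.eq.mp (QuotientGroup.out_eq' a).symm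
  obtain ⟨m, hm⟩ := mem_zpowers_iff.mp ((mem_normalizer_iff.mp hn z).mp (mem_zpowers z))
  refine mem_zpowers_iff.mpr ⟨m, ?_⟩
  rw [conjAt, conj_zpow, hm]
  group

/-- The conjugate attached to a coset of a normalizer normalizes it. -/
theorem conjAt_smul_self (z : G) (a : G ⧸ normalizer ((zpowers z : Subgroup G) : Set G)) :
    conjAt z a • a = a := by
  conv_rhs => rw [← QuotientGroup.out_eq' a]
  conv_lhs => arg 2; rw [← QuotientGroup.out_eq' a]
  rw [smul_mk_eq_iff, conjAt, show a.out⁻¹ * (a.out * z * a.out⁻¹) * a.out = z by group]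
  exact le_normalizer (mem_zpowers z)

/-- Order of the trace of a subgroup. -/
theorem card_subgroupOf (H M : Subgroup G) :
    Nat.card (H.subgroupOf M) = Nat.card (H ⊓ M : Subgroup G) := by
  rw [← inf_subgroupOf_right,
    Nat.card_congr (subgroupOfEquivOfLe (inf_le_right : H ⊓ M ≤ M)).toEquiv]

/-- A subgroup of the full power order is a Sylow subgroup. -/
theorem exists_sylow_eq [Finite G] {p k : ℕ} [hp : Fact p.Prime] {H : Subgroup G}
    (hH : Nat.card H = p ^ k) (hk : ¬ p ^ (k + 1) ∣ Nat.card G) :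
    ∃ Q : Sylow p G, (Q : Subgroup G) = H := by
  obtain ⟨Q, hQ⟩ := (IsPGroup.of_card hH).exists_le_sylow
  obtain ⟨j, hj⟩ := Q.2.exists_card_eq
  refine ⟨Q, (Subgroup.eq_of_le_of_card_ge hQ ?_).symm⟩
  rw [hj, hH]
  refine Nat.pow_le_pow_right hp.out.pos ?_
  by_contra hc
  exact hk ((pow_dvd_pow p (not_le.mp hc)).trans (hj ▸ card_subgroup_dvd_card (Q : Subgroup G)))

/-- The Sylow number of a subgroup through the normalizer in the whole group. -/
theorem card_sylow_subgroup [Finite G] {p k : ℕ} [Fact p.Prime] {M H : Subgroup G} (hle : H ≤ M)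
    (hH : Nat.card H = p ^ k) (hk : ¬ p ^ (k + 1) ∣ Nat.card M) :
    Nat.card (Sylow p M) = (normalizer (H : Set G)).relIndex M := by
  obtain ⟨Q, hQ⟩ := exists_sylow_eq (G := M) (H := H.subgroupOf M) (p := p) (k := k)
    (by rw [card_subgroupOf, inf_eq_left.mpr hle, hH]) hk
  rw [Q.card_eq_index_normalizer, relIndex]
  congr 1
  rw [subgroupOf_normalizer_eq hle, ← hQ]
  rfl

/-- Index times order. -/
theorem relIndex_mul_card_inf (H M : Subgroup G) :
    H.relIndex M * Nat.card (H ⊓ M : Subgroup G) = Nat.card M := by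
  rw [← card_subgroupOf, relIndex, mul_comm, card_mul_index]

/-- If all orbit lengths are multiples of `n`, so is the number of points. -/
theorem dvd_card_of_index {X : Type*} [MulAction G X] [Finite G] [Finite X] {n : ℕ}
    (h : ∀ a : X, n ∣ (stabilizer G a).index) : n ∣ Nat.card X := by
  classical
  haveI := Fintype.ofFinite (orbitRel.Quotient G X)
  rw [Nat.card_congr (selfEquivSigmaOrbitsQuotientStabilizer G X), Nat.card_sigma]
  refine Finset.dvd_sum fun ω _ => ?_
  rw [← index_eq_card]
  exact h _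

/-- Two commuting elements of order `p` generate a `p`-group. -/
theorem isPGroup_sup {p : ℕ} [Fact p.Prime] {a b : G} (ha : orderOf a = p) (hb : orderOf b = p)
    (hc : Commute a b) : IsPGroup p (zpowers a ⊔ zpowers b : Subgroup G) := by
  have h1 : IsPGroup p (zpowers a) := IsPGroup.of_card (n := 1) (by rw [Nat.card_zpowers, ha, pow_one])
  have h2 : IsPGroup p (zpowers b) := IsPGroup.of_card (n := 1) (by rw [Nat.card_zpowers, hb, pow_one])
  refine h1.to_sup_of_normal_right' h2 ?_
  rw [zpowers_le, mem_normalizer_iff_map_conj_eq, MonoidHom.map_zpowers]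
  congr 1
  show a * b * a⁻¹ = b
  rw [hc.eq, mul_inv_cancel_right]

end Cfsg.Agent.Lib.Order7920
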