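/-
Sylow 11-subgroups of a simple group of order 7920: there are 144, each self-centralizing with
normalizer of order 55.
-/
import Mathlib
import Cfsg.Prelude.Def_Sporadic
import Cfsg.Agent.Lib.SmallGroups.PrimeSylow
import Cfsg.Agent.Lib.SmallGroups.ElemCentral
import Cfsg.Agent.Lib.SmallGroups.InvolutionParity
import Cfsg.Agent.Lib.Order7920.Tools

set_option autoImplicit false
set_option linter.style.haveILetI false

namespace Cfsg.Agent.Lib.Order7920

open Subgroup MulAction Cfsg Cfsg.Agent.Lib.SmallGroups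

variable {G : Type*} [Group G] [Finite G]

theorem isSimple (hG : IsM11 G) : IsSimpleGroup G := hG.1

theorem card_eq (hG : IsM11 G) : Nat.card G = 7920 := hG.2

theorem not_comm (hG : IsM11 G) : ¬ IsMulCommutative G := by
  haveI := hG.1
  refine not_isMulCommutative_of_not_prime ?_
  rw [hG.2]
  norm_num

/-- A faithful coset action. -/
theorem eq_one_of_fix_all (hG : IsM11 G) {H : Subgroup G} (hH : H ≠ ⊤) {g : G}
    (h : ∀ a : G ⧸ H, g • a = a) : g = 1 := by
  haveI := hG.1
  refine toPermHom_injective hH ?_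
  rw [map_one]
  exact Equiv.ext h

omit [Finite G] in
/-- Cosets of a Sylow normalizer. -/
theorem card_coset_sylow {p : ℕ} [Fact p.Prime] [Finite (Sylow p G)] (P : Sylow p G) :
    Nat.card (G ⧸ normalizer ((P : Subgroup G) : Set G)) = Nat.card (Sylow p G) :=
  P.card_eq_card_quotient_normalizer.symm

theorem moved_pos (hG : IsM11 G) {H : Subgroup G} (hH : H ≠ ⊤) {g : G} (hg : g ≠ 1) :
    0 < Nat.card {a : G ⧸ H | g • a ≠ a} := by
  by_contra hc
  refine hg (eq_one_of_fix_all hG hH fun a => ?_)
  by_contra ha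
  haveI : Nonempty {a : G ⧸ H | g • a ≠ a} := ⟨⟨a, ha⟩⟩
  exact hc Nat.card_pos

/-- An element commuting with a Sylow element of prime order `p` moves a positive multiple of `p`
of the conjugates of that Sylow subgroup, fewer than all. -/
theorem moved_of_commute (hG : IsM11 G) {p : ℕ} [hp : Fact p.Prime] (P : Sylow p G)
    (hP : Nat.card (P : Subgroup G) = p) {y z : G} (hy : orderOf y = p) (hz : z ≠ 1)
    (hc : Commute y z) :
    ∃ m, p ∣ m ∧ 0 < m ∧ m < Nat.card (Sylow p G) ∧
      m = Nat.card {a : G ⧸ normalizer ((P : Subgroup G) : Set G) | z • a ≠ a} ∧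
      Nat.card (fixedBy (G ⧸ normalizer ((P : Subgroup G) : Set G)) z) + m
        = Nat.card (Sylow p G) := by
  haveI := hG.1
  have hdvd : p ∣ Nat.card G := hP ▸ card_subgroup_dvd_card (P : Subgroup G)
  have hone := card_fixedBy_of_orderOf P hP hy
  obtain ⟨hsub, ⟨a0⟩⟩ := Nat.card_eq_one_iff_unique.mp hone
  have hfix : ∀ a : G ⧸ normalizer ((P : Subgroup G) : Set G), y • a = a → z • a = a := by
    intro a ha
    have h2 : y • z • a = z • a := by rw [smul_smul, hc.eq, mul_smul, ha]
    exact congrArg Subtype.val (hsub.elim (⟨z • a, h2⟩ : fixedBy _ y) ⟨a, ha⟩)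
  have hsum := card_fixedBy_add_moved (X := G ⧸ normalizer ((P : Subgroup G) : Set G)) z
  rw [card_coset_sylow] at hsum
  refine ⟨_, dvd_card_moved (by rw [← hy, pow_orderOf_eq_one]) hc hfix,
    moved_pos hG (normalizer_sylow_ne_top (not_comm hG) hdvd P) hz, ?_, rfl, hsum⟩
  haveI : Nonempty (fixedBy (G ⧸ normalizer ((P : Subgroup G) : Set G)) z) :=
    ⟨⟨a0.1, hfix a0.1 a0.2⟩⟩
  have h0 : 0 < Nat.card (fixedBy (G ⧸ normalizer ((P : Subgroup G) : Set G)) z) := Nat.card_pos
  omega

theorem card_sylow_prime (hG : IsM11 G) {p : ℕ} [hp : Fact p.Prime] (h : p = 5 ∨ p = 11)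
    (P : Sylow p G) : Nat.card (P : Subgroup G) = p := by
  rcases h with rfl | rfl
  · rw [card_sylow_eq (k := 1) (m := 1584) P (by rw [hG.2]; norm_num) (by norm_num), pow_one]
  · rw [card_sylow_eq (k := 1) (m := 720) P (by rw [hG.2]; norm_num) (by norm_num), pow_one]

theorem card_sylow_eleven (hG : IsM11 G) [Fact (Nat.Prime 11)] :
    Nat.card (Sylow 11 G) = 144 := by
  haveI := hG.1
  haveI : Fact (Nat.Prime 3) := ⟨Nat.prime_three⟩
  haveI : Fact (Nat.Prime 2) := ⟨Nat.prime_two⟩
  have hna := not_comm hG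
  have hmem := card_sylow_mem hna (p := 11) (k := 1) (m := 720) (by rw [hG.2]; norm_num) (by norm_num)
    one_ne_zero
  rw [show (Nat.divisors 720).filter (fun d => d % 11 = 1 ∧ d ≠ 1) = {12, 45, 144} by
    decide +kernel] at hmem
  simp only [Finset.mem_insert, Finset.mem_singleton] at hmem
  have P : Sylow 11 G := default
  have hP := card_sylow_prime hG (Or.inr rfl) P
  obtain ⟨e, he, he1, -, hN⟩ := exists_card_normalizer_eq_of_simple hna P hP
  have hn := card_normalizer_sylow_mul P
  rw [hN, hG.2] at hn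
  obtain ⟨y, hyP, hy⟩ := exists_mem_orderOf 11 (dvd_of_eq hP.symm)
  have hcomm : ∀ z ∈ centralizer ((P : Subgroup G) : Set G), Commute y z := fun z hz =>
    mem_centralizer_iff.mp hz y hyP
  rcases hmem with h | h | h
  · exfalso
    rw [h] at hn
    have h3 : 3 ∣ Nat.card (centralizer ((P : Subgroup G) : Set G)) := by
      have he' : ¬ 3 ∣ e := fun h3 => absurd (h3.trans he) (by norm_num)
      refine ((Nat.Prime.dvd_mul Nat.prime_three).mp (?_ : 3 ∣ e * _)).resolve_left he'
      exact ⟨220, by omega⟩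
    obtain ⟨z, hz, hz3⟩ := exists_mem_orderOf 3 h3
    obtain ⟨m, hm11, hm0, hm, -, hmf⟩ := moved_of_commute hG P hP hy
      (fun e => by rw [e, orderOf_one] at hz3; omega) (hcomm z hz)
    have hfix := card_fixedBy_modEq (X := G ⧸ normalizer ((P : Subgroup G) : Set G)) (g := z)
      (p := 3) (by rw [← hz3, pow_orderOf_eq_one])
    rw [card_coset_sylow, h] at hfix
    rw [h] at hm hmf
    omega
  · exfalso
    rw [h] at hn
    have hC : Nat.card (centralizer ((P : Subgroup G) : Set G)) = 88 := by
      have h1 : e ∈ Nat.divisors 10 := Nat.mem_divisors.mpr ⟨he, by norm_num⟩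
      rw [show Nat.divisors 10 = {1, 2, 5, 10} by decide] at h1
      simp only [Finset.mem_insert, Finset.mem_singleton] at h1
      rcases h1 with rfl | rfl | rfl | rfl <;> omega
    obtain ⟨D0, hD0⟩ := Sylow.exists_subgroup_card_pow_prime (G := centralizer ((P : Subgroup G) : Set G))
      2 (n := 3) (by rw [hC]; norm_num)
    set D := D0.map (centralizer ((P : Subgroup G) : Set G)).subtype
    have hD : Nat.card D = 8 := by
      rw [Subgroup.card_map_of_injective (Subgroup.subtype_injective _), hD0]; norm_num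
    have hDC : ∀ d ∈ D, Commute y d := fun d hd => hcomm d (map_subtype_le D0 hd)
    set X := G ⧸ normalizer ((P : Subgroup G) : Set G)
    have hone := card_fixedBy_of_orderOf P hP hy
    obtain ⟨hsub, ⟨a0⟩⟩ := Nat.card_eq_one_iff_unique.mp hone
    have hfix0 : ∀ d ∈ D, d • a0.1 = a0.1 := fun d hd => by
      have h2 : y • d • a0.1 = d • a0.1 := by
        rw [smul_smul, (hDC d hd).eq, mul_smul, a0.2]
      exact congrArg Subtype.val (hsub.elim (⟨d • a0.1, h2⟩ : fixedBy _ y) a0)
    -- involutions of `D` fix only `a0`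
    have hinv : ∀ d ∈ D, orderOf d = 2 → ∀ a : X, d • a = a → a = a0.1 := by
      intro d hd hd2 a ha
      obtain ⟨m, hm11, hm0, hm, hmdef, hmf⟩ := moved_of_commute hG P hP hy
        (fun e => by rw [e, orderOf_one] at hd2; omega) (hDC d hd)
      have h4 := card_fixedBy_mod_four hna (X := X) hd2
      rw [show Nat.card X = _ from card_coset_sylow P, h] at h4
      rw [h] at hm hmf
      replace hmf : Nat.card (fixedBy X d) + m = 45 := hmf
      have h1 : Nat.card (fixedBy X d) = 1 := by omega
      obtain ⟨hsub', -⟩ := Nat.card_eq_one_iff_unique.mp h1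
      exact congrArg Subtype.val (hsub'.elim (⟨a, ha⟩ : fixedBy X d) ⟨a0.1, hfix0 d hd⟩)
    let S := {a : X // a ≠ a0.1}
    letI : MulAction D S :=
      { smul := fun d a => ⟨(d : G) • a.1, fun e => a.2 (smul_left_cancel (d : G)
          (e.trans (hfix0 d d.2).symm))⟩
        one_smul := fun a => Subtype.ext (one_smul G a.1)
        mul_smul := fun c d a => Subtype.ext (mul_smul (c : G) (d : G) a.1) }
    have hfree : ∀ a : S, stabilizer D a = ⊥ := by
      intro a
      rw [eq_bot_iff]
      intro d hd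
      rw [mem_bot]
      by_contra hd1
      have h2 : 2 ∣ orderOf d := by
        have h8 := orderOf_dvd_natCard d
        rw [hD, show 8 = 2 ^ 3 by norm_num] at h8
        obtain ⟨k, -, hk⟩ := (Nat.dvd_prime_pow Nat.prime_two).mp h8
        rw [hk]
        refine dvd_pow_self 2 fun hk0 => hd1 ?_
        rwa [hk0, pow_zero, orderOf_eq_one_iff] at hk
      have hu := orderOf_pow_orderOf_div (orderOf_pos d).ne' h2
      have hu' := pow_mem hd (orderOf d / 2)
      rw [mem_stabilizer_iff] at hu'
      refine a.2 (hinv _ ((d ^ (orderOf d / 2) : D)).2 ?_ a.1 (congrArg Subtype.val hu'))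
      rwa [Subgroup.orderOf_coe]
    have hS : Nat.card S = 44 := by
      classical
      haveI := Fintype.ofFinite X
      rw [Nat.card_eq_fintype_card, Fintype.card_subtype_compl, Fintype.card_subtype_eq,
        ← Nat.card_eq_fintype_card, show Nat.card X = _ from card_coset_sylow P, h]
    have hdvd : Nat.card D ∣ Nat.card S := by
      classical
      haveI := Fintype.ofFinite (orbitRel.Quotient D S)
      rw [Nat.card_congr (selfEquivSigmaOrbitsQuotientStabilizer D S), Nat.card_sigma]
      refine Finset.dvd_sum fun ω _ => dvd_of_eq ?_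
      rw [hfree, ← index_eq_card, index_bot]
    rw [hD, hS] at hdvd
    omega
  · exact h

theorem card_centralizer_eleven (hG : IsM11 G) {x : G} (hx : orderOf x = 11) :
    Nat.card (centralizer ({x} : Set G)) = 11 := by
  haveI := hG.1
  haveI : Fact (Nat.Prime 11) := ⟨by norm_num⟩
  have P : Sylow 11 G := default
  have hP := card_sylow_prime hG (Or.inr rfl) P
  obtain ⟨e, he, he1, hdvd, hN⟩ := exists_card_normalizer_eq_of_simple (not_comm hG) P hP
  have hn := card_normalizer_sylow_mul P
  rw [hN, hG.2, card_sylow_eleven hG] at hn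
  rw [card_centralizer_of_orderOf P hP hx]
  obtain ⟨c, hc⟩ := hdvd
  rw [hc] at hn ⊢
  have h1 : e * c = 5 := by nlinarith
  have h2 : e ∈ Nat.divisors 5 := Nat.mem_divisors.mpr ⟨⟨c, h1.symm⟩, by norm_num⟩
  rw [Nat.Prime.divisors (by norm_num), Finset.mem_insert, Finset.mem_singleton] at h2
  rcases h2 with rfl | rfl
  · exact absurd rfl he1
  · omega

/-- A centralizer contains an element of order 11 only if it is the centralizer of one. -/
theorem not_eleven_dvd_centralizer (hG : IsM11 G) {g : G} (hg : g ≠ 1) (h11 : ¬ orderOf g = 11) :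
    ¬ 11 ∣ Nat.card (centralizer ({g} : Set G)) := by
  intro h
  haveI : Fact (Nat.Prime 11) := ⟨by norm_num⟩
  obtain ⟨x, hx, hx11⟩ := exists_mem_orderOf 11 h
  have hc := card_centralizer_eleven hG hx11
  have hmem : g ∈ centralizer ({x} : Set G) :=
    mem_centralizer_singleton_iff.mpr (mem_centralizer_singleton_iff.mp hx).symm
  have := Subgroup.orderOf_dvd_natCard _ hmem
  rw [hc] at this
  rcases (Nat.dvd_prime (by norm_num)).mp this with h1 | h1
  · exact hg (orderOf_eq_one_iff.mp h1)
  · exact h11 h1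

end Cfsg.Agent.Lib.Order7920
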