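/-
Sylow 5-subgroups of a simple group of order 7920: their number is 66 or 396, and subgroups with
six of them have no suitable normal complement.
-/
import Mathlib
import Cfsg.Agent.Lib.Order7920.Eleven

set_option autoImplicit false
set_option linter.style.haveILetI false

namespace Cfsg.Agent.Lib.Order7920

open Subgroup MulAction Cfsg Cfsg.Agent.Lib.SmallGroups

variable {G : Type*} [Group G] [Finite G]

theorem dvd_seventy_twenty (hG : IsM11 G) {H : Subgroup G} (h : ¬ 11 ∣ Nat.card H) :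
    Nat.card H ∣ 720 := by
  have h1 : Nat.card H ∣ 11 * 720 := by
    have := card_subgroup_dvd_card H
    rw [hG.2] at this
    exact this
  exact ((Nat.Prime.coprime_iff_not_dvd (by norm_num : Nat.Prime 11)).mpr h).symm.dvd_of_dvd_mul_left h1

theorem exists_sylow_five (hG : IsM11 G) {y : G} (hy : orderOf y = 5) [Fact (Nat.Prime 5)] :
    ∃ Y : Sylow 5 G, (Y : Subgroup G) = zpowers y :=
  exists_sylow_eq (k := 1) (by rw [Nat.card_zpowers, hy, pow_one]) (by rw [hG.2]; norm_num)

theorem card_sylow_five_eq (hG : IsM11 G) {y : G} (hy : orderOf y = 5) [Fact (Nat.Prime 5)] :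
    Nat.card (normalizer ((zpowers y : Subgroup G) : Set G)) * Nat.card (Sylow 5 G) = 7920 := by
  obtain ⟨Y, hY⟩ := exists_sylow_five hG hy
  have := card_normalizer_sylow_mul Y
  rwa [hY, hG.2] at this

/-- `|N(⟨g⟩)| = e |C(g)|` for an element of prime order. -/
theorem card_normalizer_zpowers_eq {p : ℕ} [hp : Fact p.Prime] {g : G} (hg : orderOf g = p) :
    ∃ e, e ∣ p - 1 ∧ Nat.card (normalizer ((zpowers g : Subgroup G) : Set G)) =
      e * Nat.card (centralizer ({g} : Set G)) := by
  have hc : Nat.card (zpowers g) = p := by rw [Nat.card_zpowers, hg]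
  obtain ⟨e, he, h⟩ := exists_card_normalizer_eq hc
  refine ⟨e, he, ?_⟩
  rwa [centralizer_eq_of_prime hc (mem_zpowers g)
    (by rintro rfl; rw [orderOf_one] at hg; exact hp.out.ne_one hg.symm)]

/-- In a simple group the index over the centralizer is not one. -/
theorem card_normalizer_five (hG : IsM11 G) {y : G} (hy : orderOf y = 5) [Fact (Nat.Prime 5)] :
    ∃ e, (e = 2 ∨ e = 4) ∧ 5 ∣ Nat.card (centralizer ({y} : Set G)) ∧
      e * Nat.card (centralizer ({y} : Set G)) * Nat.card (Sylow 5 G) = 7920 := by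
  haveI := hG.1
  obtain ⟨Y, hY⟩ := exists_sylow_five hG hy
  obtain ⟨e, he, he1, hdvd, h⟩ := exists_card_normalizer_eq_of_simple (not_comm hG) Y
    (card_sylow_prime hG (Or.inl rfl) Y)
  have hC : centralizer ({y} : Set G) = centralizer ((Y : Subgroup G) : Set G) := by
    rw [centralizer_eq_of_prime (card_sylow_prime hG (Or.inl rfl) Y) (hY ▸ mem_zpowers y)
      (by rintro rfl; simp at hy)]
  rw [← hC] at hdvd h
  refine ⟨e, ?_, hdvd, ?_⟩
  · have h1 : e ∈ Nat.divisors 4 := Nat.mem_divisors.mpr ⟨he, by norm_num⟩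
    rw [show Nat.divisors 4 = {1, 2, 4} by decide] at h1
    simp only [Finset.mem_insert, Finset.mem_singleton] at h1
    omega
  · rw [← h]
    have := card_normalizer_sylow_mul Y
    rwa [hG.2] at this

theorem five_cases (hG : IsM11 G) [Fact (Nat.Prime 5)] :
    Nat.card (Sylow 5 G) = 66 ∨ Nat.card (Sylow 5 G) = 396 := by
  haveI := hG.1
  haveI : Fact (Nat.Prime 3) := ⟨Nat.prime_three⟩
  haveI : Fact (Nat.Prime 11) := ⟨by norm_num⟩
  have hna := not_comm hG
  have hmem := card_sylow_mem hna (p := 5) (k := 1) (m := 1584) (by rw [hG.2]; norm_num)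
    (by norm_num) one_ne_zero
  rw [show (Nat.divisors 1584).filter (fun d => d % 5 = 1 ∧ d ≠ 1) =
    {6, 11, 16, 36, 66, 176, 396} by decide +kernel] at hmem
  simp only [Finset.mem_insert, Finset.mem_singleton] at hmem
  obtain ⟨y, hy⟩ := exists_prime_orderOf_dvd_card' (G := G) 5 (by rw [hG.2]; norm_num)
  obtain ⟨e, he, h5, heq⟩ := card_normalizer_five hG hy
  have h11 : ¬ 11 ∣ e * Nat.card (centralizer ({y} : Set G)) := by
    rw [Nat.Prime.dvd_mul (by norm_num)]
    rintro (h | h)
    · rcases he with rfl | rfl <;> norm_num at h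
    · exact not_eleven_dvd_centralizer hG (by rintro rfl; simp at hy) (by omega) h
  set C := Nat.card (centralizer ({y} : Set G)) with hCdef
  rcases hmem with h | h | h | h | h | h | h <;> rw [h] at heq
  · exact absurd (⟨120, by omega⟩ : 11 ∣ e * C) h11
  · exfalso
    have h3 : 3 ∣ C := by rcases he with rfl | rfl <;> omega
    obtain ⟨z, hz, hz3⟩ := exists_mem_orderOf 3 (hCdef ▸ h3)
    obtain ⟨Y, hY⟩ := exists_sylow_five hG hy
    obtain ⟨m, hm5, hm0, hm, -, hmf⟩ := moved_of_commute hG Y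
      (card_sylow_prime hG (Or.inl rfl) Y) hy
      (fun e' => by rw [e', orderOf_one] at hz3; omega) (mem_centralizer_singleton_iff.mp hz).symm
    have hfix := card_fixedBy_modEq (X := G ⧸ normalizer ((Y : Subgroup G) : Set G)) (g := z)
      (p := 3) (by rw [← hz3, pow_orderOf_eq_one])
    rw [card_coset_sylow, h] at hfix
    rw [h] at hm hmf
    omega
  · exact absurd (⟨45, by omega⟩ : 11 ∣ e * C) h11
  · exact absurd (⟨20, by omega⟩ : 11 ∣ e * C) h11
  · exact Or.inl h
  · exfalso
    rcases he with rfl | rfl <;> omega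
  · exact Or.inr h

/-- No subgroup with six Sylow 5-subgroups has a normal 3-complement through a self-centralizing
Sylow 3-normalizer. -/
theorem burnside_six {q : ℕ} [Fact (Nat.Prime 5)] [Fact (Nat.Prime 3)] {M Q : Subgroup G} {y : G}
    (hy : orderOf y = 5) (hyM : y ∈ M) (hQM : Q ≤ M) (hq : Nat.card Q = 3 ^ q) (hq2 : q ≤ 2)
    (hq' : ¬ 3 ^ (q + 1) ∣ Nat.card M) (h25 : ¬ 25 ∣ Nat.card M)
    (h720 : Nat.card M ∣ 720)
    (h6 : (normalizer ((zpowers y : Subgroup G) : Set G)).relIndex M = 6)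
    (hle : ∀ g ∈ M, g ∈ normalizer (Q : Set G) → ∀ v ∈ Q, Commute g v) : False := by
  obtain ⟨QM, hQ⟩ := exists_sylow_eq (G := M) (p := 3) (H := Q.subgroupOf M) (k := q)
    (by rw [card_subgroupOf, inf_eq_left.mpr hQM, hq]) hq'
  have hNC : normalizer ((QM : Subgroup M) : Set M) ≤ centralizer ((QM : Subgroup M) : Set M) := by
    intro g hg
    rw [hQ] at hg ⊢
    rw [← subgroupOf_normalizer_eq hQM, mem_subgroupOf] at hg
    refine mem_centralizer_iff.mpr fun v hv => Subtype.ext ?_
    exact ((hle g g.2 hg v hv).eq).symm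
  have hcompl := MonoidHom.ker_transferSylow_isComplement' QM hNC
  set K0 := (MonoidHom.transferSylow QM hNC).ker with hK0
  have hcK0 := hcompl.card_mul
  rw [hQ, card_subgroupOf, inf_eq_left.mpr hQM, hq] at hcK0
  have h3K : ¬ 3 ∣ Nat.card K0 := MonoidHom.not_dvd_card_ker_transferSylow QM hNC
  -- `y` lies in the complement
  have hidx : K0.index = 3 ^ q := by
    have := K0.card_mul_index
    rw [← hcK0] at this
    exact Nat.eq_of_mul_eq_mul_left Nat.card_pos this
  have hyK : (⟨y, hyM⟩ : M) ∈ K0 := by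
    rw [hK0, ← QuotientGroup.eq_one_iff (N := K0)]
    have h1 : orderOf ((⟨y, hyM⟩ : M) : M ⧸ K0) ∣ 5 := by
      have := orderOf_map_dvd (QuotientGroup.mk' K0) (⟨y, hyM⟩ : M)
      rwa [Subgroup.orderOf_mk, hy] at this
    have h2 : orderOf ((⟨y, hyM⟩ : M) : M ⧸ K0) ∣ 3 ^ q := by
      rw [← hidx, index_eq_card]
      exact orderOf_dvd_natCard _
    exact orderOf_eq_one_iff.mp (Nat.eq_one_of_dvd_coprimes
      (Nat.Coprime.pow_right q (by norm_num)) h1 h2)
  set K := K0.map M.subtype with hKdef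
  have hK : Nat.card K = Nat.card K0 :=
    Subgroup.card_map_of_injective (Subgroup.subtype_injective _)
  have hKM : K ≤ M := map_subtype_le K0
  have hyK' : zpowers y ≤ K := zpowers_le.mpr ⟨_, hyK, rfl⟩
  set NY := normalizer ((zpowers y : Subgroup G) : Set G)
  have hr6 : NY.relIndex K ≤ 6 := h6 ▸ relIndex_le_of_le_right hKM (by omega)
  have hsyl := card_sylow_subgroup (p := 5) (k := 1) hyK' (by rw [Nat.card_zpowers, hy, pow_one])
    (fun h => h25 (h.trans (card_dvd_of_le hKM)))
  have hmod := card_sylow_modEq_one 5 K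
  rw [hsyl, Nat.ModEq] at hmod
  have hmul := relIndex_mul_card_inf NY K
  have h5 : 5 ∣ Nat.card (NY ⊓ K : Subgroup G) := by
    rw [← hy]
    exact orderOf_dvd_natCard _ ⟨le_normalizer (mem_zpowers y), hyK' (mem_zpowers y)⟩
  have hK80 : Nat.card K ∣ 80 := by
    refine ((Nat.Prime.coprime_iff_not_dvd Nat.prime_three).mpr (hK ▸ h3K)).pow_left 2
      |>.symm.dvd_of_dvd_mul_left ?_
    exact (hK ▸ (card_subgroup_dvd_card K0).trans h720 : Nat.card K ∣ 720)
  have hr1 : NY.relIndex K = 1 := by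
    obtain ⟨j, hj⟩ := h5
    rw [hj] at hmul
    have h16 : NY.relIndex K ∣ 16 := by
      rw [← hmul, show 80 = 5 * 16 by norm_num, mul_left_comm] at hK80
      exact (dvd_mul_right _ j).trans ((Nat.mul_dvd_mul_iff_left (by norm_num)).mp hK80)
    have : NY.relIndex K ∈ Nat.divisors 16 := Nat.mem_divisors.mpr ⟨h16, by norm_num⟩
    rw [show Nat.divisors 16 = {1, 2, 4, 8, 16} by decide] at this
    simp only [Finset.mem_insert, Finset.mem_singleton] at this
    replace hmod : NY.relIndex K % 5 = 1 % 5 := hmod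
    omega
  rw [hr1, one_mul] at hmul
  have hKle : Nat.card K ∣ Nat.card (NY ⊓ M : Subgroup G) :=
    hmul ▸ card_dvd_of_le (inf_le_inf_left _ hKM)
  have hM := relIndex_mul_card_inf NY M
  rw [h6] at hM
  obtain ⟨l, hl⟩ := hKle
  rw [hl, ← hcK0, ← hK, mul_left_comm] at hM
  have := Nat.eq_of_mul_eq_mul_left Nat.card_pos hM
  interval_cases q <;> omega

end Cfsg.Agent.Lib.Order7920
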