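/-
A simple group of order 7920 does not have 66 Sylow 5-subgroups: an element of order three
centralizing one of them would have an impossible centralizer.
-/
import Mathlib
import Cfsg.Agent.Lib.Order7920.Five

set_option autoImplicit false
set_option linter.style.haveILetI false

namespace Cfsg.Agent.Lib.Order7920

open Subgroup MulAction Cfsg Cfsg.Agent.Lib.SmallGroups

variable {G : Type*} [Group G] [Finite G]

/-- A Sylow 3-subgroup has order nine. -/
theorem card_sylow_three_eq (hG : IsM11 G) [Fact (Nat.Prime 3)] (Q : Sylow 3 G) :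
    Nat.card (Q : Subgroup G) = 9 := by
  rw [card_sylow_eq (k := 2) (m := 880) Q (by rw [hG.2]; norm_num) (by norm_num)]
  norm_num

/-- A group of order nine is abelian. -/
theorem commute_of_card_nine {P : Subgroup G} (hP : Nat.card P = 9) {a b : G} (ha : a ∈ P)
    (hb : b ∈ P) : Commute a b := by
  haveI : Fact (Nat.Prime 3) := ⟨Nat.prime_three⟩
  haveI := IsPGroup.isMulCommutative_of_card_eq_prime_sq (G := P) (p := 3)
    (by rw [hP]; norm_num)
  exact congrArg Subtype.val (IsMulCommutative.is_comm.comm (⟨a, ha⟩ : P) ⟨b, hb⟩)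

/-- Two commuting independent elements of order three span a group of order nine. -/
theorem card_sup_three (hG : IsM11 G) {a b : G} (ha : orderOf a = 3) (hb : orderOf b = 3)
    (hc : Commute a b) (hne : b ∉ zpowers a) :
    Nat.card (zpowers a ⊔ zpowers b : Subgroup G) = 9 := by
  haveI : Fact (Nat.Prime 3) := ⟨Nat.prime_three⟩
  have hp := isPGroup_sup (p := 3) ha hb hc
  obtain ⟨Q, hQ⟩ := hp.exists_le_sylow
  have hd := card_dvd_of_le hQ
  rw [card_sylow_three_eq hG Q] at hd
  have h3 : Nat.card (zpowers a) ∣ Nat.card (zpowers a ⊔ zpowers b : Subgroup G) :=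
    card_dvd_of_le le_sup_left
  rw [Nat.card_zpowers, ha] at h3
  have : Nat.card (zpowers a ⊔ zpowers b : Subgroup G) ∈ Nat.divisors 9 :=
    Nat.mem_divisors.mpr ⟨hd, by norm_num⟩
  rw [show Nat.divisors 9 = {1, 3, 9} by decide] at this
  simp only [Finset.mem_insert, Finset.mem_singleton] at this
  rcases this with h | h | h
  · rw [h] at h3; norm_num at h3
  · exfalso
    refine hne ?_
    have he : zpowers a = zpowers a ⊔ zpowers b :=
      Subgroup.eq_of_le_of_card_ge le_sup_left (by rw [h, Nat.card_zpowers, ha])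
    rw [he]
    exact mem_sup_right (mem_zpowers b)
  · exact h

/-- In a subgroup with Sylow 3-subgroups of order nine there are at most eight elements of order
three for each of them. -/
theorem card_order_three_le {M : Subgroup G} [Fact (Nat.Prime 3)]
    (h9 : ∀ Q : Sylow 3 M, Nat.card (Q : Subgroup M) = 9) :
    Nat.card {x : M // orderOf x = 3} ≤ Nat.card (Sylow 3 M) * 8 := by
  classical
  haveI := Fintype.ofFinite (Sylow 3 M)
  let T := Σ Q : Sylow 3 M, {v : (Q : Subgroup M) // v ≠ 1}
  have hT : Nat.card T = Nat.card (Sylow 3 M) * 8 := by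
    rw [Nat.card_sigma, Finset.sum_congr rfl (g := fun _ => 8) fun Q _ => ?_, Finset.sum_const,
      Finset.card_univ, smul_eq_mul, Nat.card_eq_fintype_card]
    haveI := Fintype.ofFinite (Q : Subgroup M)
    rw [Nat.card_eq_fintype_card, Fintype.card_subtype_compl, Fintype.card_subtype_eq,
      ← Nat.card_eq_fintype_card, h9 Q]
  rw [← hT]
  have hsyl : ∀ x : {x : M // orderOf x = 3}, ∃ Q : Sylow 3 M, zpowers x.1 ≤ (Q : Subgroup M) :=
    fun x => (IsPGroup.of_card (n := 1)
      (by rw [Nat.card_zpowers, x.2, pow_one] : Nat.card (zpowers x.1) = 3 ^ 1)).exists_le_sylow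
  choose Q hQ using hsyl
  refine Nat.card_le_card_of_injective (fun x => (⟨Q x, ⟨x.1, hQ x (mem_zpowers _)⟩, fun e => by
    have h := x.2
    rw [show x.1 = 1 from congrArg Subtype.val e, orderOf_one] at h
    omega⟩ : T)) ?_
  intro x x' h
  exact Subtype.ext (congrArg (fun v : T => (v.2.1.1 : M)) h)

/-- The set of points fixed by `z` splits into orbits of `C(z)` of length divisible by `n₃(C(z))`. -/
theorem stabilizer_le_normalizer_sup {z : G}
    (a : G ⧸ normalizer ((zpowers z : Subgroup G) : Set G)) {g : G}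
    (hg : g ∈ centralizer ({z} : Set G)) (ha : g • a = a) :
    g ∈ normalizer ((zpowers z ⊔ zpowers (conjAt z a) : Subgroup G) : Set G) := by
  rw [mem_normalizer_iff_map_conj_eq, Subgroup.map_sup, MonoidHom.map_zpowers,
    MonoidHom.map_zpowers]
  have h1 : MulAut.conj g z = z := by
    show g * z * g⁻¹ = z
    rw [mem_centralizer_singleton_iff.mp hg, mul_inv_cancel_right]
  have h2 : zpowers (MulAut.conj g (conjAt z a)) = zpowers (conjAt z a) := by
    refine Subgroup.eq_of_le_of_card_ge (zpowers_le.mpr (conj_mem_of_smul_eq z g a ha)) ?_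
    rw [Nat.card_zpowers, Nat.card_zpowers, MulEquiv.orderOf_eq]
  exact congrArg₂ (· ⊔ ·) (congrArg zpowers h1) h2

theorem not_sixtysix (hG : IsM11 G) [Fact (Nat.Prime 5)] : Nat.card (Sylow 5 G) ≠ 66 := by
  intro h66
  haveI := hG.1
  haveI : Fact (Nat.Prime 3) := ⟨Nat.prime_three⟩
  haveI : Fact (Nat.Prime 11) := ⟨by norm_num⟩
  have hna := not_comm hG
  obtain ⟨y, hy⟩ := exists_prime_orderOf_dvd_card' (G := G) 5 (by rw [hG.2]; norm_num)
  obtain ⟨e, he, -, heC⟩ := card_normalizer_five hG hy
  rw [h66] at heC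
  set C := Nat.card (centralizer ({y} : Set G)) with hCdef
  have hC : C = 30 ∨ C = 60 := by rcases he with rfl | rfl <;> omega
  have h5C : ∀ y' : G, orderOf y' = 5 → ¬ 9 ∣ Nat.card (centralizer ({y'} : Set G)) := by
    intro y' hy' h9
    obtain ⟨e', he', -, heC'⟩ := card_normalizer_five hG hy'
    rw [h66] at heC'
    rcases he' with rfl | rfl <;> omega
  obtain ⟨z, hzy, hz⟩ := exists_mem_orderOf 3
    (H := centralizer ({y} : Set G)) (by rcases hC with h | h <;> rw [← hCdef, h] <;> norm_num)
  have hyz : Commute z y := mem_centralizer_singleton_iff.mp hzy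
  have hz1 : z ≠ 1 := fun h => by rw [h, orderOf_one] at hz; omega
  set M := centralizer ({z} : Set G) with hM
  have hyM : y ∈ M := mem_centralizer_singleton_iff.mpr hyz.symm
  have hzM : z ∈ M := mem_centralizer_singleton_iff.mpr rfl
  have hM720 := dvd_seventy_twenty hG (not_eleven_dvd_centralizer hG hz1 (by omega))
  have hM5 : 5 ∣ Nat.card M := hy ▸ Subgroup.orderOf_dvd_natCard M hyM
  have hM9 : 9 ∣ Nat.card M := by
    obtain ⟨Q, hQ⟩ := (IsPGroup.of_card (n := 1)
      (by rw [Nat.card_zpowers, hz, pow_one] : Nat.card (zpowers z) = 3 ^ 1)).exists_le_sylow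
    rw [← card_sylow_three_eq hG Q]
    refine card_dvd_of_le fun v hv => mem_centralizer_singleton_iff.mpr ?_
    exact (commute_of_card_nine (card_sylow_three_eq hG Q) hv (hQ (mem_zpowers z))).eq
  -- the six Sylow 5-subgroups of `M`
  set NY := normalizer ((zpowers y : Subgroup G) : Set G) with hNY
  have hNYcard : Nat.card NY = 120 := by
    have := card_sylow_five_eq hG hy
    rw [h66] at this
    show Nat.card (normalizer ((zpowers y : Subgroup G) : Set G)) = 120
    omega
  have h15 : 15 ∣ Nat.card (NY ⊓ M : Subgroup G) := by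
    refine Nat.Coprime.mul_dvd_of_dvd_of_dvd (by norm_num : Nat.Coprime 3 5) ?_ ?_
    · rw [← hz]
      refine Subgroup.orderOf_dvd_natCard _ ⟨?_, hzM⟩
      exact centralizer_le_normalizer' (zpowers y) (by
        rw [zpowers_eq_closure, centralizer_closure]; exact hzy)
    · rw [← hy]
      exact Subgroup.orderOf_dvd_natCard _ ⟨le_normalizer (mem_zpowers y), hyM⟩
  have h120 : Nat.card (NY ⊓ M : Subgroup G) ∣ 120 := hNYcard ▸ card_dvd_of_le inf_le_left
  have hr := relIndex_mul_card_inf NY M
  have hr5 : NY.relIndex M % 5 = 1 := by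
    have h := card_sylow_modEq_one 5 M
    rwa [card_sylow_subgroup (p := 5) (k := 1) (zpowers_le.mpr hyM)
      (by rw [Nat.card_zpowers, hy, pow_one])
      (fun h => by have := h.trans hM720; norm_num at this)] at h
  have h6 : NY.relIndex M = 6 ∧ (Nat.card M = 90 ∨ Nat.card M = 180 ∨ Nat.card M = 360 ∨
      Nat.card M = 720) := by
    obtain ⟨j, hj⟩ := h15
    obtain ⟨k, hk⟩ : 45 ∣ Nat.card M :=
      Nat.Coprime.mul_dvd_of_dvd_of_dvd (by norm_num : Nat.Coprime 9 5) hM9 hM5
    rw [hj] at h120 hr
    rw [hk] at hr hM720 ⊢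
    have hk' : k ∈ Nat.divisors 16 := Nat.mem_divisors.mpr
      ⟨(Nat.mul_dvd_mul_iff_left (by norm_num : 0 < 45)).mp (by simpa using hM720), by norm_num⟩
    have hj' : j ∈ Nat.divisors 8 := Nat.mem_divisors.mpr
      ⟨(Nat.mul_dvd_mul_iff_left (by norm_num : 0 < 15)).mp (by simpa using h120), by norm_num⟩
    rw [show Nat.divisors 16 = {1, 2, 4, 8, 16} by decide] at hk'
    rw [show Nat.divisors 8 = {1, 2, 4, 8} by decide] at hj'
    simp only [Finset.mem_insert, Finset.mem_singleton] at hk' hj'
    rcases hk' with rfl | rfl | rfl | rfl | rfl <;> rcases hj' with rfl | rfl | rfl | rfl <;>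
      omega
  obtain ⟨h6, hMcases⟩ := h6
  -- the conjugates of `⟨z⟩`
  obtain ⟨e', he', hN⟩ := card_normalizer_zpowers_eq hz
  rw [← hM] at hN
  have he'2 : e' = 1 ∨ e' = 2 := (Nat.dvd_prime Nat.prime_two).mp he'
  set NZ := normalizer ((zpowers z : Subgroup G) : Set G) with hNZ
  set X := G ⧸ NZ with hX
  have hc : Nat.card X * Nat.card NZ = 7920 := by
    rw [← hG.2, hX, ← index_eq_card, mul_comm, card_mul_index]
  set a0 : X := ((1 : G) : X)
  -- fixed points of `y`
  set Cy := centralizer ({y} : Set G) with hCy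
  have hzCy : zpowers z ≤ Cy := zpowers_le.mpr hzy
  have h9C : ¬ 3 ^ (1 + 1) ∣ Nat.card Cy := by
    rcases hC with h | h <;> rw [← hCdef, h] <;> norm_num
  have horb : fixedBy X y = MulAction.orbit Cy a0 := by
    apply Set.Subset.antisymm
    · intro a ha
      have hk : orderOf (conjAt z a) = 3 := (orderOf_conjAt z a).trans hz
      have hcom : Commute y (conjAt z a) := commute_of_normalizes_three (n := 5) (by decide)
        (by rw [← hy, pow_orderOf_eq_one]) hk (conj_mem_of_smul_eq z y a ha)
      have hkC : zpowers (conjAt z a) ≤ Cy :=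
        zpowers_le.mpr (mem_centralizer_singleton_iff.mpr hcom.symm)
      obtain ⟨Q0, hQ0⟩ := exists_sylow_eq (G := Cy) (p := 3) (k := 1)
        (H := (zpowers z).subgroupOf Cy)
        (by rw [card_subgroupOf, inf_eq_left.mpr hzCy, Nat.card_zpowers, hz, pow_one]) h9C
      obtain ⟨Q1, hQ1⟩ := exists_sylow_eq (G := Cy) (p := 3) (k := 1)
        (H := (zpowers (conjAt z a)).subgroupOf Cy)
        (by rw [card_subgroupOf, inf_eq_left.mpr hkC, Nat.card_zpowers, hk, pow_one]) h9C
      obtain ⟨c, hc'⟩ := exists_smul_eq Cy Q0 Q1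
      have hmem : (c : G) * z * (c : G)⁻¹ ∈ zpowers (conjAt z a) := by
        have h1 : MulAut.conj c ⟨z, hzy⟩ ∈ (Q1 : Subgroup Cy) := by
          rw [← hc', Sylow.coe_subgroup_smul]
          exact Subgroup.smul_mem_pointwise_smul _ (MulAut.conj c) _
            (hQ0 ▸ (mem_subgroupOf.mpr (mem_zpowers z)))
        rw [hQ1, mem_subgroupOf] at h1
        exact h1
      refine ⟨c, eq_of_zpowers_conjAt_eq z ?_⟩
      show conjAt z ((((c : G) * 1 : G)) : X) ∈ _
      rw [mul_one]
      exact zpowers_le.mpr hmem (conjAt_mk_mem z (c : G))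
    · rintro a ⟨c, rfl⟩
      show y • ((((c : G) * 1 : G)) : X) = ((((c : G) * 1 : G)) : X)
      rw [mul_one, smul_mk_eq_iff,
        show (c : G)⁻¹ * y * c = y by
          rw [mul_assoc, ← (mem_centralizer_singleton_iff.mp c.2), inv_mul_cancel_left]]
      exact centralizer_le_normalizer' (zpowers z) (by
        rw [zpowers_eq_closure, centralizer_closure]; exact hyM)
  have hf : Nat.card (fixedBy X y) = Nat.card (Sylow 3 Cy) := by
    rw [horb, card_sylow_subgroup (p := 3) (k := 1) hzCy
      (by rw [Nat.card_zpowers, hz, pow_one]) h9C, relIndex, Nat.card_coe_set_eq,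
      ← index_stabilizer]
    congr 1
    ext u
    rw [mem_stabilizer_iff, mem_subgroupOf]
    show (((u : G) * 1 : G) : X) = ((1 : G) : X) ↔ _
    rw [mul_one, eq_comm, QuotientGroup.eq, inv_one, one_mul]
  have hf5 := card_fixedBy_modEq (X := X) (g := y) (p := 5) (by rw [← hy, pow_orderOf_eq_one])
  have hf4 : Nat.card (Sylow 3 Cy) = 1 ∨ Nat.card (Sylow 3 Cy) = 4 := by
    have hs := card_sylow_subgroup (p := 3) (k := 1) hzCy
      (by rw [Nat.card_zpowers, hz, pow_one]) h9C
    have hm := relIndex_mul_card_inf (normalizer ((zpowers z : Subgroup G) : Set G)) Cy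
    have h3 := card_sylow_modEq_one 3 Cy
    rw [← hs] at hm
    rw [Nat.ModEq] at h3
    obtain ⟨j, hj⟩ : 15 ∣ Nat.card (normalizer ((zpowers z : Subgroup G) : Set G) ⊓ Cy :
        Subgroup G) := by
      refine Nat.Coprime.mul_dvd_of_dvd_of_dvd (by norm_num : Nat.Coprime 3 5) ?_ ?_
      · rw [← hz]
        exact Subgroup.orderOf_dvd_natCard _ ⟨le_normalizer (mem_zpowers z), hzy⟩
      · rw [← hy]
        exact Subgroup.orderOf_dvd_natCard _ ⟨centralizer_le_normalizer' (zpowers z) (by
          rw [zpowers_eq_closure, centralizer_closure]; exact hyM),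
          mem_centralizer_singleton_iff.mpr rfl⟩
    rw [hj, show Nat.card Cy = C from rfl] at hm
    have h4 : Nat.card (Sylow 3 Cy) ∣ 4 := by
      rcases hC with h | h <;> rw [h] at hm
      · exact (Dvd.intro j (by linarith : Nat.card (Sylow 3 Cy) * j = 2)).trans (by norm_num)
      · exact Dvd.intro j (by linarith : Nat.card (Sylow 3 Cy) * j = 4)
    have := Nat.mem_divisors.mpr ⟨h4, (by norm_num : (4 : ℕ) ≠ 0)⟩
    rw [show Nat.divisors 4 = {1, 2, 4} by decide] at this
    simp only [Finset.mem_insert, Finset.mem_singleton] at this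
    omega
  rw [hf] at hf5
  have hcases : Nat.card X = 11 ∨ (Nat.card X = 44 ∧
      (Nat.card M = 90 ∨ (Nat.card M = 180 ∧ e' = 1))) := by
    rw [hN] at hc
    rcases hMcases with h | h | h | h <;> rw [h] at hc <;>
      rcases he'2 with rfl | rfl <;> omega
  -- Sylow 3-subgroups of `M`
  have h27 : ¬ 3 ^ (2 + 1) ∣ Nat.card M := fun h => by
    have := h.trans hM720; norm_num at this
  have hQM : ∀ Q : Sylow 3 M, Nat.card (Q : Subgroup M) = 9 := by
    intro Q
    obtain ⟨k, hk⟩ := hM9
    rw [card_sylow_eq (k := 2) (m := k) Q (by rw [hk]; norm_num)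
      (fun h => h27 (by rw [hk]; obtain ⟨l, rfl⟩ := h; exact ⟨l, by ring⟩))]
    norm_num
  set n := Nat.card (Sylow 3 M) with hn
  have hn3 : n % 3 = 1 := by
    have := card_sylow_modEq_one 3 M
    rwa [Nat.ModEq] at this
  have hn5 : 5 ∣ n := by
    have Q : Sylow 3 M := default
    have h1 := card_normalizer_sylow_mul Q
    refine ((Nat.Prime.dvd_mul (by norm_num)).mp (h1.symm ▸ hM5)).resolve_left fun h5 => ?_
    obtain ⟨u, hu, hu5⟩ := exists_mem_orderOf 5 h5
    have hcomm := commute_of_normalizes_nine (hQM Q) (le_refl 5) hu5 hu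
    refine h5C u (by rw [Subgroup.orderOf_coe, hu5]) ?_
    rw [← hQM Q, ← Subgroup.card_map_of_injective (Subgroup.subtype_injective M)
      (K := (Q : Subgroup M))]
    refine card_dvd_of_le ?_
    rintro _ ⟨v, hv, rfl⟩
    exact mem_centralizer_singleton_iff.mpr (congrArg Subtype.val (hcomm v hv).eq).symm
  have hn9 : n * 9 ∣ Nat.card M := by
    have Q : Sylow 3 M := default
    rw [← card_normalizer_sylow_mul Q, mul_comm]
    exact Nat.mul_dvd_mul_right (hQM Q ▸ card_dvd_of_le le_normalizer) _
  -- fixed points of `z`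
  let S := {a : X // z • a = a ∧ a ≠ a0}
  have ha0 : ∀ g ∈ M, g • a0 = a0 := fun g hg => by
    rw [smul_mk_eq_iff, inv_one, one_mul, mul_one]
    exact centralizer_le_normalizer' (zpowers z) (by
      rw [zpowers_eq_closure, centralizer_closure]; exact hg)
  letI : MulAction M S :=
    { smul := fun g a => ⟨(g : G) • a.1, by
          rw [smul_smul, show z * (g : G) = g * z from (mem_centralizer_singleton_iff.mp g.2).symm,
            mul_smul, a.2.1],
          fun h => a.2.2 (smul_left_cancel (g : G) (h.trans (ha0 g g.2).symm))⟩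
      one_smul := fun a => Subtype.ext (one_smul G a.1)
      mul_smul := fun g h a => Subtype.ext (mul_smul (g : G) (h : G) a.1) }
  have hk3 : ∀ a : S, orderOf (conjAt z a.1) = 3 := fun a => (orderOf_conjAt z a.1).trans hz
  have hkz : ∀ a : S, Commute z (conjAt z a.1) := fun a =>
    commute_of_normalizes_three (n := 3) (by decide) (by rw [← hz, pow_orderOf_eq_one]) (hk3 a)
      (conj_mem_of_smul_eq z z a.1 a.2.1)
  have hkne : ∀ a : S, conjAt z a.1 ∉ zpowers z := by
    intro a h
    refine a.2.2 (eq_of_zpowers_conjAt_eq z ?_)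
    have hle : conjAt z a0 ∈ zpowers z := by
      simpa using conjAt_mk_mem z 1
    have heq : zpowers (conjAt z a0) = zpowers z :=
      Subgroup.eq_of_le_of_card_ge (zpowers_le.mpr hle) (by
        rw [Nat.card_zpowers, Nat.card_zpowers, orderOf_conjAt])
    rw [heq]; exact h
  have hsupM : ∀ a : S, zpowers z ⊔ zpowers (conjAt z a.1) ≤ M := fun a =>
    sup_le (zpowers_le.mpr hzM)
      (zpowers_le.mpr (mem_centralizer_singleton_iff.mpr (hkz a).symm.eq))
  have hstab : ∀ (a : S) (g : M), g ∈ stabilizer M a →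
      (g : G) ∈ normalizer ((zpowers z ⊔ zpowers (conjAt z a.1) : Subgroup G) : Set G) :=
    fun a g hg => stabilizer_le_normalizer_sup a.1 g.2 (congrArg Subtype.val hg)
  have hnS : n ∣ Nat.card S := dvd_card_of_index fun a => by
    rw [hn, card_sylow_subgroup (p := 3) (k := 2) (hsupM a)
      (by rw [card_sup_three hG hz (hk3 a) (hkz a) (hkne a)]; norm_num) h27, relIndex]
    exact index_dvd_of_le fun g hg => hstab a g hg
  have hfixS : Nat.card (fixedBy X z) = Nat.card S + 1 := by
    classical
    haveI := Fintype.ofFinite X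
    have h1 : Nat.card (fixedBy X z) =
        (Finset.univ.filter fun a : X => z • a = a).card := by
      rw [Nat.card_eq_fintype_card, ← Fintype.card_subtype]
      rfl
    have h2 : Nat.card S = ((Finset.univ.filter fun a : X => z • a = a).erase a0).card := by
      rw [Nat.card_eq_fintype_card, Fintype.card_subtype]
      congr 1
      ext a
      simp [and_comm]
    have hmem : a0 ∈ Finset.univ.filter fun a : X => z • a = a := by simp [ha0 z hzM]
    rw [h1, h2, Finset.card_erase_of_mem hmem]
    have := Finset.card_pos.mpr ⟨a0, hmem⟩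
    omega
  have hzmod := card_fixedBy_modEq (X := X) (g := z) (p := 3) (by rw [← hz, pow_orderOf_eq_one])
  have hle := card_fixedBy_add_moved (X := X) z
  have hNZtop : NZ ≠ ⊤ := fun h => by
    have := hN
    rw [show Nat.card NZ = Nat.card G by rw [h, Subgroup.card_top], hG.2] at this
    rcases hMcases with h' | h' | h' | h' <;> rw [h'] at this <;> omega
  have hmv : 0 < Nat.card {a : X | z • a ≠ a} := moved_pos hG hNZtop hz1
  rcases hcases with h11 | ⟨h44, hMc⟩
  · rcases Nat.eq_zero_or_pos (Nat.card S) with h | h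
    · omega
    · have := Nat.le_of_dvd h hnS
      omega
  have hn10 : n = 10 := by
    have h20 : n ∣ 20 := by
      rcases hMc with h | ⟨h, -⟩ <;> rw [h] at hn9
      · exact (Nat.dvd_of_mul_dvd_mul_right (by norm_num : 0 < 9)
          (show n * 9 ∣ 10 * 9 from hn9)).trans (by norm_num)
      · exact Nat.dvd_of_mul_dvd_mul_right (by norm_num : 0 < 9) (show n * 9 ∣ 20 * 9 from hn9)
    have := Nat.mem_divisors.mpr ⟨h20, (by norm_num : (20 : ℕ) ≠ 0)⟩
    rw [show Nat.divisors 20 = {1, 2, 4, 5, 10, 20} by decide] at this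
    simp only [Finset.mem_insert, Finset.mem_singleton] at this
    omega
  have hSne : Nonempty S := by
    by_contra h
    rw [not_nonempty_iff] at h
    rw [Nat.card_of_isEmpty (α := S)] at hfixS
    omega
  -- a Sylow normalizer acting trivially is impossible
  have hburn : ∀ a : S, ¬ ∀ g ∈ M,
      g ∈ normalizer ((zpowers z ⊔ zpowers (conjAt z a.1) : Subgroup G) : Set G) →
      ∀ v ∈ zpowers z ⊔ zpowers (conjAt z a.1), Commute g v := fun a hle =>
    burnside_six (q := 2) hy hyM (hsupM a)
      (by rw [card_sup_three hG hz (hk3 a) (hkz a) (hkne a)]; norm_num) le_rfl h27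
      (fun h => by have := h.trans hM720; norm_num at this) hM720 h6 hle
  have hNQ : ∀ a : S, n * Nat.card (normalizer
      ((zpowers z ⊔ zpowers (conjAt z a.1) : Subgroup G) : Set G) ⊓ M : Subgroup G) =
      Nat.card M := fun a => by
    rw [hn, card_sylow_subgroup (p := 3) (k := 2) (hsupM a)
      (by rw [card_sup_three hG hz (hk3 a) (hkz a) (hkne a)]; norm_num) h27]
    exact relIndex_mul_card_inf _ M
  have hle9 : ∀ a : S, zpowers z ⊔ zpowers (conjAt z a.1) ≤
      normalizer ((zpowers z ⊔ zpowers (conjAt z a.1) : Subgroup G) : Set G) ⊓ M := fun a =>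
    le_inf le_normalizer (hsupM a)
  rcases hMc with h90 | ⟨h180, he1⟩
  · obtain ⟨a⟩ := hSne
    refine hburn a fun g hgM hg v hv => ?_
    have heq : zpowers z ⊔ zpowers (conjAt z a.1) =
        normalizer ((zpowers z ⊔ zpowers (conjAt z a.1) : Subgroup G) : Set G) ⊓ M := by
      refine Subgroup.eq_of_le_of_card_ge (hle9 a) ?_
      have := hNQ a
      rw [hn10, h90] at this
      rw [card_sup_three hG hz (hk3 a) (hkz a) (hkne a)]
      omega
    exact commute_of_card_nine (card_sup_three hG hz (hk3 a) (hkz a) (hkne a))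
      (heq ▸ (⟨hg, hgM⟩ : g ∈ normalizer _ ⊓ M)) hv
  -- now every orbit has length twenty
  subst he1
  rw [one_mul] at hN
  have hcent : ∀ (g : G) (a : X), g • a = a → Commute g (conjAt z a) := by
    intro g a ha
    have hg : a.out⁻¹ * g * a.out ∈ NZ := by
      rw [← smul_mk_eq_iff, QuotientGroup.out_eq']; exact ha
    have hNM : NZ = M := (Subgroup.eq_of_le_of_card_ge (fun x hx => centralizer_le_normalizer'
      (zpowers z) (by rw [zpowers_eq_closure, centralizer_closure]; exact hx)) hN.le).symm
    have hg : a.out⁻¹ * g * a.out ∈ M := hNM.le hg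
    rw [hM, mem_centralizer_singleton_iff] at hg
    calc g * (a.out * z * a.out⁻¹) = a.out * (a.out⁻¹ * g * a.out * z) * a.out⁻¹ := by group
      _ = a.out * (z * (a.out⁻¹ * g * a.out)) * a.out⁻¹ := by rw [hg]
      _ = conjAt z a * g := by rw [conjAt]; group
  have h20 : 20 ∣ Nat.card S := dvd_card_of_index fun a => by
    set U := zpowers z ⊔ zpowers (conjAt z a.1) with hU
    have hU9 : Nat.card U = 9 := card_sup_three hG hz (hk3 a) (hkz a) (hkne a)
    set ST := (stabilizer M a).map M.subtype with hSTdef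
    have hST : Nat.card ST = Nat.card (stabilizer M a) :=
      Subgroup.card_map_of_injective (Subgroup.subtype_injective M)
    have hle1 : ST ≤ normalizer (U : Set G) ⊓ M := by
      rintro _ ⟨g, hg, rfl⟩
      exact ⟨hstab a g hg, g.2⟩
    have hstz : ∀ g : G, ∀ hgM : g ∈ M, g • a.1 = a.1 → g ∈ ST := fun g hgM hg =>
      ⟨⟨g, hgM⟩, mem_stabilizer_iff.mpr (Subtype.ext hg), rfl⟩
    have hle2 : U ≤ ST := sup_le (zpowers_le.mpr (hstz z hzM a.2.1))
      (zpowers_le.mpr (hstz _ (hsupM a (mem_sup_right (mem_zpowers _)))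
        (conjAt_smul_self z a.1)))
    obtain ⟨j, hj⟩ := hU9 ▸ card_dvd_of_le hle2
    have h18 : Nat.card (normalizer (U : Set G) ⊓ M : Subgroup G) = 18 := by
      have := hNQ a
      rw [hn10, h180, ← hU] at this
      omega
    have hd := card_dvd_of_le hle1
    rw [h18, hj] at hd
    have hj2 : j ∣ 2 := (Nat.mul_dvd_mul_iff_left (by norm_num : 0 < 9)).mp (by simpa using hd)
    rcases (Nat.dvd_prime Nat.prime_two).mp hj2 with rfl | rfl
    · have := (stabilizer M a).index_mul_card
      rw [← hST, hj, h180] at this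
      refine ⟨1, ?_⟩
      linarith
    · exfalso
      have heq : ST = normalizer (U : Set G) ⊓ M :=
        Subgroup.eq_of_le_of_card_ge hle1 (by rw [h18, hj])
      refine hburn a fun g hgM hg v hv => ?_
      have hgst : g ∈ ST := heq ▸ (⟨hg, hgM⟩ : g ∈ normalizer (U : Set G) ⊓ M)
      obtain ⟨g', hg', rfl⟩ := hgst
      have h1 : U ≤ centralizer ({(g' : G)} : Set G) := sup_le
        (zpowers_le.mpr (mem_centralizer_singleton_iff.mpr
          (mem_centralizer_singleton_iff.mp g'.2).symm))
        (zpowers_le.mpr (mem_centralizer_singleton_iff.mpr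
          (hcent g' a.1 (congrArg Subtype.val hg')).symm.eq))
      exact (mem_centralizer_singleton_iff.mp (h1 hv)).symm
  have h41 : Nat.card S = 40 := by omega
  -- too many elements of order three
  have hk_inj : Function.Injective fun ai : S × Bool =>
      (⟨if ai.2 then conjAt z ai.1.1 else (conjAt z ai.1.1)⁻¹, by
        split
        · exact mem_centralizer_singleton_iff.mpr (hkz ai.1).symm.eq
        · exact inv_mem (mem_centralizer_singleton_iff.mpr (hkz ai.1).symm.eq)⟩ : M) := by
    rintro ⟨a, i⟩ ⟨b, j⟩ h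
    have h' := congrArg Subtype.val h
    dsimp only at h'
    have hab : a = b := by
      refine Subtype.ext (eq_of_zpowers_conjAt_eq z ?_)
      have hmem : conjAt z a.1 ∈ zpowers (conjAt z b.1) ∨ conjAt z a.1 ∈ zpowers (conjAt z b.1)⁻¹ := by
        cases i <;> cases j <;> simp only [Bool.false_eq_true, if_false, if_true] at h'
        · exact Or.inl (inv_injective h' ▸ mem_zpowers _)
        · refine Or.inl ?_
          rw [← inv_inv (conjAt z a.1), h']
          exact inv_mem (mem_zpowers _)
        · exact Or.inr (h' ▸ mem_zpowers _)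
        · exact Or.inl (h' ▸ mem_zpowers _)
      rcases hmem with h1 | h1
      · exact h1
      · rwa [zpowers_inv] at h1
    subst hab
    refine Prod.ext rfl ?_
    by_contra hij
    have h3 := hk3 a
    have hsq : conjAt z a.1 = (conjAt z a.1)⁻¹ := by
      cases i <;> cases j <;> simp only [Bool.false_eq_true, if_false, if_true] at h'
      · exact absurd rfl hij
      · exact h'.symm
      · exact h'
      · exact absurd rfl hij
    have h4 : conjAt z a.1 ^ 2 = 1 := by
      rw [pow_two]; nth_rw 2 [hsq]; exact mul_inv_cancel _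
    have := orderOf_dvd_of_pow_eq_one h4
    rw [h3] at this
    exact absurd this (by decide)
  let f : S × Bool → {x : M // orderOf x = 3} := fun ai =>
    ⟨⟨if ai.2 then conjAt z ai.1.1 else (conjAt z ai.1.1)⁻¹, by
        split
        · exact mem_centralizer_singleton_iff.mpr (hkz ai.1).symm.eq
        · exact inv_mem (mem_centralizer_singleton_iff.mpr (hkz ai.1).symm.eq)⟩, by
      rw [Subgroup.orderOf_mk]
      split <;> simp [hk3]⟩
  have hf_inj : Function.Injective f := fun x y h => hk_inj (congrArg Subtype.val h)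
  have hbig := Nat.card_le_card_of_injective f hf_inj
  have hprod : Nat.card (S × Bool) = 80 := by
    rw [Nat.card_prod, h41, Nat.card_eq_fintype_card (α := Bool), Fintype.card_bool]
  rw [hprod] at hbig
  have h80 := card_order_three_le hQM
  rw [← hn, hn10] at h80
  obtain ⟨⟨a, i⟩, hai⟩ := ((Nat.bijective_iff_injective_and_card f).mpr
    ⟨hf_inj, by rw [hprod]; omega⟩).2 ⟨⟨z, hzM⟩, by rw [Subgroup.orderOf_mk, hz]⟩
  have h' := congrArg (fun x : {x : M // orderOf x = 3} => ((x.1 : M) : G)) hai
  refine hkne a ?_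
  cases i
  · rw [← inv_inv (conjAt z a.1)]
    exact inv_mem (by rw [show (conjAt z a.1)⁻¹ = z from h']; exact mem_zpowers z)
  · rw [show conjAt z a.1 = z from h']; exact mem_zpowers z

end Cfsg.Agent.Lib.Order7920
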