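/-
Elements of order five of a simple group of order 7920 are self-centralizing and have normalizers of
order twenty.
-/
import Mathlib
import Cfsg.Agent.Lib.Order7920.SixtySix

set_option autoImplicit false
set_option linter.style.haveILetI false

namespace Cfsg.Agent.Lib.Order7920

open Subgroup MulAction Cfsg Cfsg.Agent.Lib.SmallGroups

variable {G : Type*} [Group G] [Finite G]

theorem card_sylow_five (hG : IsM11 G) [Fact (Nat.Prime 5)] : Nat.card (Sylow 5 G) = 396 :=
  (five_cases hG).resolve_left (not_sixtysix hG)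

theorem card_normalizer_zpowers_five (hG : IsM11 G) {y : G} (hy : orderOf y = 5)
    [Fact (Nat.Prime 5)] : Nat.card (normalizer ((zpowers y : Subgroup G) : Set G)) = 20 := by
  have := card_sylow_five_eq hG hy
  rw [card_sylow_five hG] at this
  omega

omit [Finite G] in
/-- An involution is central in a group of order ten with a central element of order five. -/
theorem eq_of_commute_ten {y s t : G} [Finite (centralizer ({y} : Set G))]
    (hC : Nat.card (centralizer ({y} : Set G)) = 10) (hy : orderOf y = 5) (ht : orderOf t = 2)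
    (htc : Commute t y) (hs : orderOf s = 2) (hsc : Commute s y) : s = t := by
  haveI : Fact (Nat.Prime 5) := ⟨by norm_num⟩
  haveI : Fact (Nat.Prime 2) := ⟨Nat.prime_two⟩
  set C := centralizer ({y} : Set G)
  have htC : t ∈ C := mem_centralizer_singleton_iff.mpr htc.eq
  have hsC : s ∈ C := mem_centralizer_singleton_iff.mpr hsc.eq
  have hyC : y ∈ C := mem_centralizer_singleton_iff.mpr rfl
  set Z := (zpowers y).subgroupOf C
  have hZ : Nat.card Z = 5 := by
    rw [card_subgroupOf, inf_eq_left.mpr (zpowers_le.mpr hyC), Nat.card_zpowers, hy]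
  have hidx : Z.index = 2 := by
    have := Z.card_mul_index
    rw [hZ, hC] at this
    omega
  have hnot : ∀ u : G, ∀ hu : u ∈ C, orderOf u = 2 → (⟨u, hu⟩ : C) ∉ Z := fun u hu h2 h => by
    have := Subgroup.orderOf_dvd_natCard _ h
    rw [Subgroup.orderOf_mk, h2, hZ] at this
    omega
  have hst : (⟨s, hsC⟩ : C) * ⟨t, htC⟩ ∈ Z := by
    rw [Subgroup.mul_mem_iff_of_index_two hidx]
    exact ⟨fun h => absurd h (hnot s hsC hs), fun h => absurd h (hnot t htC ht)⟩
  rw [mem_subgroupOf] at hst
  obtain ⟨i, hi⟩ := mem_zpowers_iff.mp hst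
  change y ^ i = s * t at hi
  have hss : s * s = 1 := by rw [← pow_two, ← hs, pow_orderOf_eq_one]
  have htt : t * t = 1 := by rw [← pow_two, ← ht, pow_orderOf_eq_one]
  have hs' : s = y ^ i * t := by rw [hi, mul_assoc, htt, mul_one]
  have hc : Commute (y ^ i) t := (htc.symm.zpow_left i)
  have h2 : y ^ (2 * i) = 1 := by
    calc y ^ (2 * i) = y ^ i * y ^ i := by rw [two_mul, zpow_add]
      _ = (y ^ i * t) * (y ^ i * t) := by
        rw [mul_assoc (y ^ i) t, ← mul_assoc t, ← hc.eq, mul_assoc (y ^ i) t t, htt, mul_one]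
      _ = s * s := by rw [← hs']
      _ = 1 := hss
  have h5 : (5 : ℤ) ∣ 2 * i := by
    have := orderOf_dvd_iff_zpow_eq_one.mpr h2
    rwa [hy] at this
  obtain ⟨l, rfl⟩ : (5 : ℤ) ∣ i := by omega
  rw [hs', zpow_mul, show y ^ (5 : ℤ) = 1 by
    rw [show (5 : ℤ) = ((5 : ℕ) : ℤ) from rfl, zpow_natCast, ← hy, pow_orderOf_eq_one], one_zpow,
    one_mul]

/-- Elements of the double order: multiply by a central involution. -/
theorem card_mul_central {H : Subgroup G} {t : G} (ht : orderOf t = 2) (htH : t ∈ H)
    (htc : ∀ g ∈ H, Commute g t) {q : ℕ} (hq : Odd q) :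
    Nat.card {x : H // orderOf x = q} ≤ Nat.card {x : H // orderOf x = 2 * q} := by
  refine Nat.card_le_card_of_injective (fun x => ⟨x.1 * ⟨t, htH⟩, ?_⟩) ?_
  · have hc : Commute x.1 (⟨t, htH⟩ : H) := Subtype.ext (htc x.1 x.1.2).eq
    rw [hc.orderOf_mul_eq_mul_orderOf_of_coprime (by
      rw [x.2, Subgroup.orderOf_mk, ht]; exact Nat.coprime_two_right.mpr hq), x.2,
      Subgroup.orderOf_mk, ht, mul_comm]
  · intro a b h
    exact Subtype.ext (mul_right_cancel (congrArg Subtype.val h))

theorem card_centralizer_five (hG : IsM11 G) {y : G} (hy : orderOf y = 5) :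
    Nat.card (centralizer ({y} : Set G)) = 5 := by
  haveI : Fact (Nat.Prime 5) := ⟨by norm_num⟩
  haveI : Fact (Nat.Prime 3) := ⟨Nat.prime_three⟩
  haveI : Fact (Nat.Prime 2) := ⟨Nat.prime_two⟩
  haveI := hG.1
  have hna := not_comm hG
  obtain ⟨e, he, h5, heC⟩ := card_normalizer_five hG hy
  rw [card_sylow_five hG] at heC
  have hC10 : Nat.card (centralizer ({y} : Set G)) = 5 ∨
      Nat.card (centralizer ({y} : Set G)) = 10 := by rcases he with rfl | rfl <;> omega
  refine hC10.resolve_right fun hC => ?_
  obtain ⟨t, htC, ht⟩ := exists_mem_orderOf 2 (H := centralizer ({y} : Set G))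
    (by rw [hC]; norm_num)
  have hty : Commute t y := mem_centralizer_singleton_iff.mp htC
  have ht1 : t ≠ 1 := fun h => by rw [h, orderOf_one] at ht; omega
  set H := centralizer ({t} : Set G) with hH
  have hyH : y ∈ H := mem_centralizer_singleton_iff.mpr hty.symm.eq
  have htH : t ∈ H := mem_centralizer_singleton_iff.mpr rfl
  have htc : ∀ g ∈ H, Commute g t := fun g hg => mem_centralizer_singleton_iff.mp hg
  set NY := normalizer ((zpowers y : Subgroup G) : Set G) with hNY
  have hNYH : NY ≤ H := by
    intro g hg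
    have hy' : g⁻¹ * y * g ∈ zpowers y := by
      have := (mem_normalizer_iff.mp (inv_mem hg) y).mp (mem_zpowers y)
      rwa [inv_inv] at this
    obtain ⟨i, hi⟩ := mem_zpowers_iff.mp hy'
    have h1 : Commute (g * t * g⁻¹) y := by
      have h2 : Commute t (g⁻¹ * y * g) := hi ▸ hty.zpow_right i
      calc g * t * g⁻¹ * y = g * (t * (g⁻¹ * y * g)) * g⁻¹ := by group
        _ = g * (g⁻¹ * y * g * t) * g⁻¹ := by rw [h2.eq]
        _ = y * (g * t * g⁻¹) := by group
    have h3 := eq_of_commute_ten hC hy ht hty
      (by rw [← MulAut.conj_apply, MulEquiv.orderOf_eq, ht]) h1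
    exact mem_centralizer_singleton_iff.mpr (mul_inv_eq_iff_eq_mul.mp h3)
  have hNY20 : Nat.card NY = 20 := card_normalizer_zpowers_five hG hy
  have hH720 := dvd_seventy_twenty hG (not_eleven_dvd_centralizer hG ht1 (by omega))
  have hr := relIndex_mul_card_inf NY H
  rw [inf_eq_left.mpr hNYH, hNY20] at hr
  have hmod : NY.relIndex H % 5 = 1 := by
    have h := card_sylow_modEq_one 5 H
    rwa [card_sylow_subgroup (p := 5) (k := 1) (zpowers_le.mpr hyH)
      (by rw [Nat.card_zpowers, hy, pow_one])
      (fun h => by have := h.trans hH720; norm_num at this)] at h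
  have hn' : NY.relIndex H = 1 ∨ NY.relIndex H = 6 ∨ NY.relIndex H = 36 := by
    have h36 : NY.relIndex H ∣ 36 := Nat.dvd_of_mul_dvd_mul_right (by norm_num : 0 < 20)
      (show NY.relIndex H * 20 ∣ 36 * 20 by rw [hr]; exact hH720)
    have := Nat.mem_divisors.mpr ⟨h36, (by norm_num : (36 : ℕ) ≠ 0)⟩
    rw [show Nat.divisors 36 = {1, 2, 3, 4, 6, 9, 12, 18, 36} by decide] at this
    simp only [Finset.mem_insert, Finset.mem_singleton] at this
    omega
  set X := G ⧸ H with hX
  have hc : Nat.card X * Nat.card H = 7920 := by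
    rw [← hG.2, hX, ← index_eq_card, mul_comm, card_mul_index]
  set a0 : X := ((1 : G) : X)
  have hca0 : conjAt t a0 = t := conjAt_one t
  let T := {a : X | t • a = a ∧ a ≠ a0}
  have hyfix : ∀ a : X, y • a = a → a = a0 := fun a ha => by
    refine conjAt_injective t ?_
    rw [hca0]
    exact eq_of_commute_ten hC hy ht hty ((orderOf_conjAt t a).trans ht)
      ((smul_eq_iff_commute t y a).mp ha).symm
  have ha0 : ∀ g ∈ H, g • a0 = a0 := fun g hg => by
    rw [smul_eq_iff_commute, hca0]; exact htc g hg
  have hTinv : ∀ g ∈ H, ∀ a ∈ T, g • a ∈ T := fun g hg a ha =>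
    ⟨by rw [smul_smul, ← (htc g hg).eq, mul_smul, ha.1],
      fun h => ha.2 (smul_left_cancel g (h.trans (ha0 g hg).symm))⟩
  have hT5 : 5 ∣ Nat.card T := dvd_card_of_free (g := y) (by rw [← hy, pow_orderOf_eq_one])
    (hTinv y hyH) (fun a ha h => ha.2 (hyfix a h))
  have hfixT : Nat.card (fixedBy X t) = Nat.card T + 1 := by
    classical
    haveI := Fintype.ofFinite X
    have h1 : Nat.card (fixedBy X t) = (Finset.univ.filter fun a : X => t • a = a).card := by
      rw [Nat.card_eq_fintype_card, ← Fintype.card_subtype]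
      rfl
    have h2 : Nat.card T = ((Finset.univ.filter fun a : X => t • a = a).erase a0).card := by
      rw [Nat.card_eq_fintype_card,
        show Fintype.card T = Fintype.card {a : X // t • a = a ∧ a ≠ a0} from
          Fintype.card_congr (Equiv.refl _), Fintype.card_subtype]
      congr 1
      ext a
      simp [and_comm]
    have hmem : a0 ∈ Finset.univ.filter fun a : X => t • a = a := by simp [ha0 t htH]
    rw [h1, h2, Finset.card_erase_of_mem hmem]
    have := Finset.card_pos.mpr ⟨a0, hmem⟩
    omega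
  have hmod4 := card_fixedBy_mod_four hna (X := X) ht
  have hle := card_fixedBy_add_moved (X := X) t
  have hHtop : H ≠ ⊤ := centralizer_ne_top hna ht1
  have hmv : 0 < Nat.card {a : X | t • a ≠ a} := moved_pos hG hHtop ht1
  -- involutions of `H`
  have hinv : Nat.card T + 1 ≤ Nat.card {x : H // orderOf x = 2} := by
    rw [← hfixT]
    refine Nat.card_le_card_of_injective (fun a => ⟨⟨conjAt t a.1,
      mem_centralizer_singleton_iff.mpr ((smul_eq_iff_commute t t a.1).mp a.2).symm.eq⟩, by
      rw [Subgroup.orderOf_mk, orderOf_conjAt, ht]⟩) ?_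
    intro a b h
    exact Subtype.ext (conjAt_injective t
      (congrArg (fun x : {x : H // orderOf x = 2} => ((x.1 : H) : G)) h))
  have hord5 : Nat.card {x : H // orderOf x = 5} = NY.relIndex H * 4 := by
    obtain ⟨Q, hQ⟩ := exists_sylow_eq (G := H) (p := 5) (k := 1) (H := (zpowers y).subgroupOf H)
      (by rw [card_subgroupOf, inf_eq_left.mpr (zpowers_le.mpr hyH), Nat.card_zpowers, hy, pow_one])
      (fun h => by have := h.trans hH720; norm_num at this)
    rw [card_orderOf_eq_prime Q (by rw [hQ, card_subgroupOf, inf_eq_left.mpr (zpowers_le.mpr hyH),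
      Nat.card_zpowers, hy]), card_sylow_subgroup (p := 5) (k := 1) (zpowers_le.mpr hyH)
      (by rw [Nat.card_zpowers, hy, pow_one])
      (fun h => by have := h.trans hH720; norm_num at this)]
  have h10 := card_mul_central ht htH htc (q := 5) (by decide)
  have hsum1 := card_add_card_le (G := H) (p := fun x => orderOf x = 5)
    (q := fun x => orderOf x = 2 * 5) (fun g a b => by omega)
    (r := fun x => orderOf x = 5 ∨ orderOf x = 2 * 5) (fun _ => Or.inl) (fun _ => Or.inr)
  have hsum2 := card_add_card_le (G := H) (p := fun x => orderOf x = 2)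
    (q := fun x => orderOf x = 5 ∨ orderOf x = 2 * 5) (fun g a b => by omega)
    (r := fun x => orderOf x = 2 ∨ orderOf x = 5 ∨ orderOf x = 2 * 5)
    (fun _ => Or.inl) (fun _ => Or.inr)
  rcases hn' with h | h | h <;> rw [h] at hr hord5
  · have hb : Nat.card {x : H // orderOf x = 2 ∨ orderOf x = 5 ∨ orderOf x = 2 * 5} ≤
        Nat.card H := Nat.card_le_card_of_injective _ Subtype.val_injective
    rw [← hr] at hc hb
    omega
  · have hH120 : Nat.card H = 120 := by omega
    have hc66 : Nat.card X = 66 := by rw [hH120] at hc; omega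
    -- Sylow 3-subgroups of `H`
    have h3H : 3 ∣ Nat.card H := by rw [hH120]; norm_num
    obtain ⟨z, hzH, hz⟩ := exists_mem_orderOf 3 (H := H) h3H
    have h9H : ¬ 3 ^ (1 + 1) ∣ Nat.card H := by rw [hH120]; norm_num
    have hr3 := relIndex_mul_card_inf (normalizer ((zpowers z : Subgroup G) : Set G)) H
    have hs3 := card_sylow_subgroup (p := 3) (k := 1) (M := H) (zpowers_le.mpr hzH)
      (by rw [Nat.card_zpowers, hz, pow_one]) h9H
    have hmod3 := card_sylow_modEq_one 3 H
    rw [hs3, Nat.ModEq] at hmod3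
    set NZ := normalizer ((zpowers z : Subgroup G) : Set G) with hNZ
    have hzt : 6 ∣ Nat.card (NZ ⊓ H : Subgroup G) := by
      refine Nat.Coprime.mul_dvd_of_dvd_of_dvd (by norm_num : Nat.Coprime 3 2) ?_ ?_
      · rw [← hz]
        exact Subgroup.orderOf_dvd_natCard _ ⟨le_normalizer (mem_zpowers z), hzH⟩
      · rw [← ht]
        exact Subgroup.orderOf_dvd_natCard _ ⟨centralizer_le_normalizer' (zpowers z) (by
          rw [zpowers_eq_closure, centralizer_closure]
          exact mem_centralizer_singleton_iff.mpr (htc z hzH).symm.eq), htH⟩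
    have h5N : ¬ 5 ∣ Nat.card (NZ ⊓ H : Subgroup G) := by
      intro h5'
      obtain ⟨u, hu, hu5⟩ := exists_mem_orderOf 5 h5'
      have hcu : Commute u z := commute_of_normalizes_three (n := 5) (by decide)
        (by rw [← hu5, pow_orderOf_eq_one]) hz
        ((mem_normalizer_iff.mp hu.1 z).mp (mem_zpowers z))
      have := Subgroup.orderOf_dvd_natCard _
        (mem_centralizer_singleton_iff.mpr hcu.symm.eq : z ∈ centralizer ({u} : Set G))
      obtain ⟨e', he', -, heC'⟩ := card_normalizer_five hG hu5
      rw [card_sylow_five hG] at heC'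
      rw [hz] at this
      rcases he' with rfl | rfl <;> omega
    have hNZ12 : NZ.relIndex H = 10 ∧ Nat.card (NZ ⊓ H : Subgroup G) = 12 := by
      obtain ⟨j, hj⟩ := hzt
      rw [hj, hH120] at hr3
      rw [hj] at h5N ⊢
      have hj20 : j ∈ Nat.divisors 20 :=
        Nat.mem_divisors.mpr ⟨Dvd.intro_left (NZ.relIndex H) (by linarith), by norm_num⟩
      rw [show Nat.divisors 20 = {1, 2, 4, 5, 10, 20} by decide] at hj20
      simp only [Finset.mem_insert, Finset.mem_singleton] at hj20
      rcases hj20 with rfl | rfl | rfl | rfl | rfl | rfl <;> omega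
    -- the centralizer of `z` in `H` has order six
    set CZ := centralizer ({z} : Set G) ⊓ H with hCZ
    have hCZN : CZ ≤ NZ ⊓ H := inf_le_inf_right _ (fun g hg =>
      centralizer_le_normalizer' (zpowers z) (by rw [zpowers_eq_closure, centralizer_closure]; exact hg))
    have hCZd := card_dvd_of_le hCZN
    rw [hNZ12.2] at hCZd
    have hne12 : Nat.card CZ ≠ 12 := by
      intro h12
      refine burnside_six (q := 1) hy hyH (zpowers_le.mpr hzH)
        (by rw [Nat.card_zpowers, hz, pow_one]) (by norm_num) h9H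
        (by rw [hH120]; norm_num) hH720 h ?_
      intro g hgH hg v hv
      have heq : CZ = NZ ⊓ H := Subgroup.eq_of_le_of_card_ge hCZN (by rw [h12, hNZ12.2])
      have hgc : g ∈ CZ := heq ▸ (⟨hg, hgH⟩ : g ∈ NZ ⊓ H)
      obtain ⟨i, rfl⟩ := mem_zpowers_iff.mp hv
      exact (show Commute g z from mem_centralizer_singleton_iff.mp hgc.1).zpow_right i
    have hzfree : ∀ a ∈ T, z • a ≠ a := by
      intro a ha hza
      set u := conjAt t a with hu
      have hu2 : orderOf u = 2 := (orderOf_conjAt t a).trans ht
      have hut : Commute t u := (smul_eq_iff_commute t t a).mp ha.1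
      have huz : Commute z u := (smul_eq_iff_commute t z a).mp hza
      have huH : u ∈ H := mem_centralizer_singleton_iff.mpr hut.symm.eq
      have hle4 : zpowers t ⊔ zpowers u ≤ CZ := sup_le
        (zpowers_le.mpr ⟨mem_centralizer_singleton_iff.mpr (htc z hzH).symm.eq, htH⟩)
        (zpowers_le.mpr ⟨mem_centralizer_singleton_iff.mpr huz.symm.eq, huH⟩)
      obtain ⟨i, hi⟩ := (isPGroup_sup (p := 2) ht hu2 hut).exists_card_eq
      have hd := card_dvd_of_le hle4
      rw [hi] at hd
      have h4 : ¬ 4 ∣ Nat.card CZ := by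
        intro h4
        have h3 : 3 ∣ Nat.card CZ := by
          rw [← hz]
          exact Subgroup.orderOf_dvd_natCard _ ⟨mem_centralizer_singleton_iff.mpr rfl, hzH⟩
        exact hne12 (Nat.dvd_antisymm hCZd
          (Nat.Coprime.mul_dvd_of_dvd_of_dvd (by norm_num : Nat.Coprime 4 3) h4 h3))
      have hi1 : i ≤ 1 := by
        by_contra hc'
        exact h4 ((pow_dvd_pow 2 (show 2 ≤ i by omega)).trans hd)
      have heq : zpowers t = zpowers t ⊔ zpowers u :=
        Subgroup.eq_of_le_of_card_ge le_sup_left (by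
          rw [hi, Nat.card_zpowers, ht]
          exact le_trans (Nat.pow_le_pow_right (by norm_num) hi1) (by norm_num))
      have humem : u ∈ zpowers t := heq ▸ mem_sup_right (mem_zpowers u)
      obtain ⟨l, hl⟩ := mem_zpowers_iff.mp humem
      have htu : u = t := by
        rw [← hl, ← zpow_mod_orderOf, ht]
        rcases Int.emod_two_eq l with h' | h'
        · exfalso
          rw [← hl, ← zpow_mod_orderOf, ht] at hu2
          rw [show l % ((2 : ℕ) : ℤ) = 0 from h', zpow_zero, orderOf_one] at hu2
          omega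
        · rw [show l % ((2 : ℕ) : ℤ) = 1 from h', zpow_one]
      exact ha.2 (conjAt_injective t (htu.trans hca0.symm))
    have hT3 : 3 ∣ Nat.card T := dvd_card_of_free (g := z) (by rw [← hz, pow_orderOf_eq_one])
      (hTinv z hzH) hzfree
    have hord3 : Nat.card {x : H // orderOf x = 3} = 20 := by
      obtain ⟨Q, hQ⟩ := exists_sylow_eq (G := H) (p := 3) (k := 1) (H := (zpowers z).subgroupOf H)
        (by rw [card_subgroupOf, inf_eq_left.mpr (zpowers_le.mpr hzH), Nat.card_zpowers, hz, pow_one])
        h9H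
      rw [card_orderOf_eq_prime Q (by rw [hQ, card_subgroupOf, inf_eq_left.mpr (zpowers_le.mpr hzH),
        Nat.card_zpowers, hz]), hs3, hNZ12.1]
    have h6' := card_mul_central ht htH htc (q := 3) (by decide)
    have hsum3 := card_add_card_le (G := H) (p := fun x => orderOf x = 3)
      (q := fun x => orderOf x = 2 * 3) (fun g a b => by omega)
      (r := fun x => orderOf x = 3 ∨ orderOf x = 2 * 3) (fun _ => Or.inl) (fun _ => Or.inr)
    have hsum4 := card_add_card_le (G := H)
      (p := fun x => orderOf x = 2 ∨ orderOf x = 5 ∨ orderOf x = 2 * 5)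
      (q := fun x => orderOf x = 3 ∨ orderOf x = 2 * 3) (fun g a b => by omega)
      (r := fun _ => True) (fun _ _ => trivial) (fun _ _ => trivial)
    have hall : Nat.card {x : H // True} = 120 := by
      rw [Nat.card_congr (Equiv.subtypeUnivEquiv fun _ => trivial), hH120]
    omega
  · have hc11 : Nat.card X = 11 := by rw [← hr] at hc; omega
    omega

end Cfsg.Agent.Lib.Order7920
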