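/-
Every involution of a simple group of order 7920 inverts an element of order five: otherwise the
column of such an element would force a nontrivial character to contain the involution in its
kernel.
-/
import Mathlib
import Cfsg.Agent.Lib.CharCount.Basic
import Cfsg.Agent.Lib.SmallGroups.PrimeChar.Involutions
import Cfsg.Agent.Lib.BrauerTuan.SmallValue
import Cfsg.Agent.Lib.Order7920.FiveCent

set_option autoImplicit false
set_option linter.style.haveILetI false
set_option linter.unusedSectionVars false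

namespace Cfsg.Agent.Lib.Order7920

open Subgroup Cfsg Cfsg.Agent.Lib.SmallGroups Cfsg.Agent.Lib.SmallGroups.PrimeChar
open Cfsg.Agent.Lib.Chars
open scoped ComplexConjugate

universe u

variable {G : Type u} [Group G] [Finite G]

/-- The rows of a column: the data at an element of order five and one of order eleven. -/
theorem exists_column_data [Fintype G] (hG : IsM11 G) {y : G} [Fact (Nat.Prime 5)]
    (hy : orderOf y = 5) :
    ∃ (n : IrrCharacter G → ℕ) (a b : IrrCharacter G → ℤ) (W : IrrCharacter G → ℤ),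
      (∀ χ : IrrCharacter G, (χ : G → ℂ) 1 = n χ) ∧ (∀ χ, n χ ∣ 7920) ∧ W (trivialIrr G) = -1 ∧
      (∀ χ, χ ≠ trivialIrr G → 1 < n χ ∧ n χ * n χ < 7920) ∧
      (∀ χ, ∃ m : ℕ, (n χ : ℤ) = 5 * m + 4 * W χ) ∧
      (∀ χ, ∃ m : ℕ, (n χ : ℤ) = 11 * m + 5 * (a χ + b χ) ∧ 0 ≤ (m : ℤ) + a χ ∧
        0 ≤ (m : ℤ) + b χ) ∧
      (∑ χ, W χ * W χ = 5) ∧ (∑ χ, (n χ : ℤ) * W χ = 0) ∧ (∑ χ, a χ * a χ = 6) ∧
      (∑ χ, b χ * b χ = 6) ∧ a (trivialIrr G) = -1 ∧ b (trivialIrr G) = -1 ∧
      (∀ g : G, ¬ orderOf g = 5 → ∑ χ : IrrCharacter G, (χ : G → ℂ) g * (W χ : ℂ) = 0) := by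
  classical
  haveI := hG.1
  haveI : Fact (Nat.Prime 11) := ⟨by norm_num⟩
  have hna := not_comm hG
  have hC := card_centralizer_five hG hy
  have hU : (fusion 5 y).card = 4 := by
    have h := card_normalizer_zpowers (p := 5) hy
    rw [hC, card_normalizer_zpowers_five hG hy] at h
    omega
  have hUeq : fusion 5 y = Finset.univ.erase (0 : ZMod 5) :=
    Finset.eq_of_subset_of_card_le
      (fun u hu => Finset.mem_erase.mpr ⟨ne_zero_of_mem_fusion hy hu, Finset.mem_univ _⟩)
      (by rw [hU, Finset.card_erase_of_mem (Finset.mem_univ _), Finset.card_univ, ZMod.card])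
  have h10 : (1 : ZMod 5) ≠ 0 := one_ne_zero
  have hWk : ∀ (χ : IrrCharacter G), ∀ k ∈ Finset.univ.erase (0 : ZMod 5),
      w hy k χ = w hy 1 χ := fun χ k hk => by
    have := w_mul_fusion hy (u := k) (hUeq ▸ hk) 1 χ
    rwa [one_mul] at this
  choose n hn0 hn hndvd using fun χ : IrrCharacter G => irr_degree_dvd_card χ
  -- data at an element of order eleven
  obtain ⟨x, hx⟩ := exists_prime_orderOf_dvd_card' (G := G) 11 (by rw [hG.2]; norm_num)
  have hCx := card_centralizer_eleven hG hx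
  have hUx : (fusion 11 x).card = 5 := by
    have h := card_normalizer_zpowers (p := 11) hx
    obtain ⟨X, hX⟩ := exists_sylow_eq (G := G) (p := 11) (k := 1) (H := zpowers x)
      (by rw [Nat.card_zpowers, hx, pow_one]) (by rw [hG.2]; norm_num)
    have h2 := card_normalizer_sylow_mul X
    rw [hX, card_sylow_eleven hG, hG.2, h, hCx] at h2
    omega
  obtain ⟨l, hl0, hl⟩ : ∃ l : ZMod 11, l ≠ 0 ∧ l ∉ fusion 11 x := by
    by_contra hc
    push Not at hc
    have h := Finset.card_le_card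
      (show Finset.univ.erase (0 : ZMod 11) ⊆ fusion 11 x from
        fun k hk => hc k (Finset.ne_of_mem_erase hk))
    rw [hUx, Finset.card_erase_of_mem (Finset.mem_univ _), Finset.card_univ, ZMod.card] at h
    omega
  have hsplit : ∀ χ : IrrCharacter G, ∑ k ∈ Finset.univ.erase (0 : ZMod 11), w hx k χ =
      5 * (w hx 1 χ + w hx l χ) := by
    intro χ
    have hinj : Function.Injective (fun u : ZMod 11 => l * u) := mul_right_injective₀ hl0
    have hdisj : Disjoint (fusion 11 x) ((fusion 11 x).image (l * ·)) := by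
      rw [Finset.disjoint_left]
      intro u hu hu'
      obtain ⟨v, hv, he⟩ := Finset.mem_image.mp hu'
      apply hl
      have hv0 := ne_zero_of_mem_fusion hx hv
      have := mul_mem_fusion hx hu (inv_mem_fusion hx hv)
      rwa [← he, mul_inv_cancel_right₀ hv0] at this
    have hun : Finset.univ.erase (0 : ZMod 11) =
        (fusion 11 x).disjUnion ((fusion 11 x).image (l * ·)) hdisj := by
      refine (Finset.eq_of_subset_of_card_le ?_ ?_).symm
      · intro k hk
        rw [Finset.mem_disjUnion] at hk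
        refine Finset.mem_erase.mpr ⟨?_, Finset.mem_univ _⟩
        rcases hk with hk | hk
        · exact ne_zero_of_mem_fusion hx hk
        · obtain ⟨v, hv, rfl⟩ := Finset.mem_image.mp hk
          exact mul_ne_zero hl0 (ne_zero_of_mem_fusion hx hv)
      · rw [Finset.card_disjUnion, Finset.card_image_of_injective _ hinj, hUx,
          Finset.card_erase_of_mem (Finset.mem_univ _), Finset.card_univ, ZMod.card]
    rw [hun, Finset.sum_disjUnion, Finset.sum_image fun a _ b _ h => hinj h,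
      Finset.sum_congr rfl (g := fun _ => w hx 1 χ) fun k hk => by
        have := w_mul_fusion hx hk 1 χ
        rwa [one_mul] at this,
      Finset.sum_congr rfl (g := fun _ => w hx l χ) fun k hk => w_mul_fusion hx hk l χ,
      Finset.sum_const, Finset.sum_const, hUx]
    ring
  have hg1 : ∀ k : ZMod 11, k ≠ 0 →
      ∑ χ : IrrCharacter G, w hx k χ * w hx k χ = 6 := by
    intro k hk
    rw [gram hx hCx hk hk, hUx]
    have : (fusion 11 x).filter (fun u => k * u = k) = {1} := by
      ext u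
      simp only [Finset.mem_filter, Finset.mem_singleton, mul_eq_left₀ hk]
      exact ⟨fun h => h.2, fun h => ⟨h ▸ one_mem_fusion, h⟩⟩
    rw [this]
    norm_num
  refine ⟨n, w hx 1, w hx l, w hy 1, hn, fun χ => hG.2 ▸ hndvd χ, w_trivial hy h10, ?_, ?_, ?_,
    ?_, ?_, hg1 1 one_ne_zero, hg1 l hl0, w_trivial hx one_ne_zero, w_trivial hx hl0, ?_⟩
  · intro χ hne
    constructor
    · rcases Nat.lt_or_ge 1 (n χ) with h | h
      · exact h
      exfalso
      have h1 : n χ = 1 := by have := hn0 χ; omega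
      obtain ⟨φ, hφ⟩ := exists_hom_of_degree_one (irr_isCharacter χ) (by rw [hn, h1, Nat.cast_one])
      refine hne (Subtype.ext ?_)
      funext g
      simp [hφ, hom_commGroup_eq_one hna φ]
    · have h : ∑ ψ : IrrCharacter G, n ψ ^ 2 = Nat.card G := by
        have h' := sum_degree_sq (G := G)
        simp only [hn] at h'
        exact_mod_cast h'
      have h2 := Finset.sum_le_sum_of_subset (f := fun ψ : IrrCharacter G => n ψ ^ 2)
        (Finset.subset_univ ({χ, trivialIrr G} : Finset (IrrCharacter G)))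
      have h1 : n (trivialIrr G) = 1 := by
        have := hn (trivialIrr G)
        rw [trivialIrr_apply] at this
        exact_mod_cast this.symm
      rw [Finset.sum_pair hne, h, h1, hG.2, one_pow, pow_two] at h2
      omega
  · intro χ
    refine ⟨multNat hy χ 0, ?_⟩
    rw [degree_eq hy χ (hn χ), Finset.sum_congr rfl (hWk χ), Finset.sum_const,
      Finset.card_erase_of_mem (Finset.mem_univ _), Finset.card_univ, ZMod.card]
    ring
  · intro χ
    refine ⟨multNat hx χ 0, ?_, ?_, ?_⟩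
    · rw [degree_eq hx χ (hn χ), hsplit]
      ring
    · rw [w]; omega
    · rw [w]; omega
  · rw [gram hy hC h10 h10, hU]
    have : (fusion 5 y).filter (fun u => (1 : ZMod 5) * u = 1) = {1} := by
      ext u
      simp only [Finset.mem_filter, Finset.mem_singleton, one_mul]
      exact ⟨fun h => h.2, fun h => ⟨h ▸ one_mem_fusion, h⟩⟩
    rw [this]
    norm_num
  · apply Int.cast_injective (α := ℂ)
    push_cast
    rw [← sum_degree_mul_w hy (1 : ZMod 5)]
    exact Finset.sum_congr rfl fun χ _ => by rw [hn]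
  · intro g hg
    refine sum_apply_mul_w hy 1 fun j hj hc => hg ?_
    obtain ⟨c, hc⟩ := isConj_iff.mp hc
    have hP : Nat.card (zpowers y) = 5 := by rw [Nat.card_zpowers, hy]
    rw [← hc, ← MulAut.conj_apply, MulEquiv.orderOf_eq]
    refine orderOf_eq_of_prime hP (pow_mem (mem_zpowers y) _) fun h => hj ?_
    exact xp_injective hy (h.trans xp_zero.symm)

/-- The column has a single negative entry. -/
theorem exists_negative [Fintype G] (hG : IsM11 G) {y : G} [Fact (Nat.Prime 5)]
    (hy : orderOf y = 5) :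
    ∃ (n : IrrCharacter G → ℕ) (W : IrrCharacter G → ℤ) (e : IrrCharacter G)
      (S : Finset (IrrCharacter G)),
      (∀ χ : IrrCharacter G, (χ : G → ℂ) 1 = n χ ∧ 0 < n χ) ∧ S.Nonempty ∧ trivialIrr G ∉ S ∧ e ∉ S ∧
      e ≠ trivialIrr G ∧ (n e = 1 + ∑ χ ∈ S, n χ) ∧
      (∀ χ, W χ = if χ = e then 1 else if χ = trivialIrr G ∨ χ ∈ S then -1 else 0) ∧
      (∀ g : G, ¬ orderOf g = 5 → ∑ χ : IrrCharacter G, (χ : G → ℂ) g * (W χ : ℂ) = 0) := by
  classical
  obtain ⟨n, a, b, W, hn, hdvd, hW1, hdeg, h5, h11, hWsq, hWn, ha, hb, ha1, hb1, horth⟩ :=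
    exists_column_data hG hy
  have hn0 : ∀ χ, 0 < n χ := fun χ => Nat.pos_of_dvd_of_pos (hdvd χ) (by norm_num)
  have hn1 : n (trivialIrr G) = 1 := by
    have := hn (trivialIrr G)
    rw [trivialIrr_apply] at this
    exact_mod_cast this.symm
  set t := trivialIrr G
  have hWs' : ∑ χ ∈ Finset.univ.erase t, W χ * W χ = 4 := by
    rw [← Finset.add_sum_erase _ _ (Finset.mem_univ t), hW1] at hWsq
    omega
  have hWn' : ∑ χ ∈ Finset.univ.erase t, (n χ : ℤ) * W χ = 1 := by
    rw [← Finset.add_sum_erase _ _ (Finset.mem_univ t), hW1, hn1] at hWn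
    omega
  have ha' : ∑ χ ∈ Finset.univ.erase t, a χ * a χ = 5 := by
    rw [← Finset.add_sum_erase _ _ (Finset.mem_univ t), ha1] at ha
    omega
  have hb' : ∑ χ ∈ Finset.univ.erase t, b χ * b χ = 5 := by
    rw [← Finset.add_sum_erase _ _ (Finset.mem_univ t), hb1] at hb
    omega
  have hbound : ∀ (f : IrrCharacter G → ℤ) (m : ℤ), ∑ χ ∈ Finset.univ.erase t, f χ * f χ = m →
      ∀ χ, χ ≠ t → f χ * f χ ≤ m := fun f m h χ hχ => by
    rw [← h]
    exact Finset.single_le_sum (f := fun χ => f χ * f χ) (fun i _ => mul_self_nonneg _)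
      (Finset.mem_erase.mpr ⟨hχ, Finset.mem_univ _⟩)
  have hsmall : ∀ (f : IrrCharacter G → ℤ) (m : ℤ), ∑ χ ∈ Finset.univ.erase t, f χ * f χ = m →
      m ≤ 5 → ∀ χ, χ ≠ t → -2 ≤ f χ ∧ f χ ≤ 2 := fun f m h hm χ hχ => by
    have := hbound f m h χ hχ
    constructor <;> nlinarith
  -- all entries are units
  have hunit : ∀ χ, χ ≠ t → W χ = 1 ∨ W χ = -1 ∨ W χ = 0 := by
    intro χ hχ
    obtain ⟨h1, h2⟩ := hsmall W 4 hWs' (by norm_num) χ hχ
    by_contra hc
    have hW4 : W χ * W χ = 4 := by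
      have : W χ = 2 ∨ W χ = -2 := by omega
      rcases this with h | h <;> rw [h] <;> norm_num
    have hmem : χ ∈ Finset.univ.erase t := Finset.mem_erase.mpr ⟨hχ, Finset.mem_univ _⟩
    rw [← Finset.add_sum_erase _ _ hmem, hW4] at hWs'
    have hz : ∀ ψ ∈ (Finset.univ.erase t).erase χ, W ψ = 0 := fun ψ hψ => by
      have := (Finset.sum_eq_zero_iff_of_nonneg (fun i _ => mul_self_nonneg (W i))).mp
        (by omega) ψ hψ
      exact mul_self_eq_zero.mp this
    rw [← Finset.add_sum_erase _ _ hmem, Finset.sum_eq_zero fun ψ hψ => by rw [hz ψ hψ, mul_zero],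
      add_zero] at hWn'
    rcases (show W χ = 2 ∨ W χ = -2 by omega) with h | h <;> rw [h] at hWn' <;> omega
  set S := (Finset.univ.erase t).filter fun χ => W χ = -1
  set N := (Finset.univ.erase t).filter fun χ => W χ = 1
  have hsum : ∀ f : IrrCharacter G → ℤ,
      ∑ χ ∈ Finset.univ.erase t, f χ * W χ = ∑ χ ∈ N, f χ - ∑ χ ∈ S, f χ := by
    intro f
    rw [Finset.sum_filter, Finset.sum_filter, ← Finset.sum_sub_distrib]
    refine Finset.sum_congr rfl fun χ hχ => ?_
    rcases hunit χ (Finset.ne_of_mem_erase hχ) with h | h | h <;> rw [h] <;> norm_num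
  have hcard : N.card + S.card = 4 := by
    rw [Finset.card_filter, Finset.card_filter, ← Finset.sum_add_distrib]
    zify
    rw [← hWs']
    refine Finset.sum_congr rfl fun χ hχ => ?_
    rcases hunit χ (Finset.ne_of_mem_erase hχ) with h | h | h <;> rw [h] <;> norm_num
  -- degrees of the entries
  have hlist : ∀ χ, χ ≠ t → n χ ∈ (Nat.divisors 7920).filter fun d => 1 < d ∧ d * d < 7920 :=
    fun χ hχ => Finset.mem_filter.mpr ⟨Nat.mem_divisors.mpr ⟨hdvd χ, by norm_num⟩, hdeg χ hχ⟩
  have hNdeg : ∀ χ ∈ N, n χ = 24 ∧ a χ = -2 ∨ n χ = 44 := by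
    intro χ hχ
    obtain ⟨hχ, hw⟩ := Finset.mem_filter.mp hχ
    have hne := Finset.ne_of_mem_erase hχ
    obtain ⟨m, hm⟩ := h5 χ
    rw [hw] at hm
    obtain ⟨k, hk, hka, hkb⟩ := h11 χ
    obtain ⟨h1, h2⟩ := hsmall a 5 ha' le_rfl χ hne
    obtain ⟨h3, h4⟩ := hsmall b 5 hb' le_rfl χ hne
    have hl : n χ ∈ ((Nat.divisors 7920).filter fun d => 1 < d ∧ d * d < 7920).filter
        fun d => d % 5 = 4 := Finset.mem_filter.mpr ⟨hlist χ hne, by omega⟩
    rw [show ((Nat.divisors 7920).filter fun d => 1 < d ∧ d * d < 7920).filter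
        (fun d => d % 5 = 4) = {4, 9, 24, 44} by decide +kernel] at hl
    simp only [Finset.mem_insert, Finset.mem_singleton] at hl
    rcases hl with h | h | h | h <;> rw [h] at hk ⊢ <;> omega
  have hSdeg : ∀ χ ∈ S, n χ = 6 ∨ n χ = 11 ∨ n χ = 16 ∨ n χ = 66 := by
    intro χ hχ
    obtain ⟨hχ, hw⟩ := Finset.mem_filter.mp hχ
    have hne := Finset.ne_of_mem_erase hχ
    obtain ⟨m, hm⟩ := h5 χ
    rw [hw] at hm
    obtain ⟨k, hk, hka, hkb⟩ := h11 χ
    obtain ⟨h1, h2⟩ := hsmall a 5 ha' le_rfl χ hne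
    obtain ⟨h3, h4⟩ := hsmall b 5 hb' le_rfl χ hne
    have hl : n χ ∈ ((Nat.divisors 7920).filter fun d => 1 < d ∧ d * d < 7920).filter
        fun d => d % 5 = 1 := Finset.mem_filter.mpr ⟨hlist χ hne, by omega⟩
    rw [show ((Nat.divisors 7920).filter fun d => 1 < d ∧ d * d < 7920).filter
        (fun d => d % 5 = 1) = {6, 11, 16, 36, 66} by decide +kernel] at hl
    simp only [Finset.mem_insert, Finset.mem_singleton] at hl
    rcases hl with h | h | h | h | h <;> rw [h] at hk ⊢ <;> omega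
  have h24 : ∀ χ ∈ N, ∀ ψ ∈ N, n χ = 24 → n ψ = 24 → χ = ψ := by
    intro χ hχ ψ hψ h h'
    by_contra hne
    have e1 : a χ = -2 := ((hNdeg χ hχ).resolve_right (by omega)).2
    have e2 : a ψ = -2 := ((hNdeg ψ hψ).resolve_right (by omega)).2
    have hle := Finset.sum_le_sum_of_subset_of_nonneg (f := fun χ => a χ * a χ)
      (show ({χ, ψ} : Finset _) ⊆ Finset.univ.erase t by
        rw [Finset.insert_subset_iff, Finset.singleton_subset_iff]
        exact ⟨(Finset.mem_filter.mp hχ).1, (Finset.mem_filter.mp hψ).1⟩)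
      (fun i _ _ => mul_self_nonneg _)
    rw [Finset.sum_pair hne, e1, e2, ha'] at hle
    norm_num at hle
  have hrel := hsum fun χ => (n χ : ℤ)
  rw [hWn'] at hrel
  have hrel' : ∑ χ ∈ N, n χ = 1 + ∑ χ ∈ S, n χ := by
    have : ((∑ χ ∈ N, n χ : ℕ) : ℤ) = ((1 + ∑ χ ∈ S, n χ : ℕ) : ℤ) := by push_cast; linarith
    exact_mod_cast this
  have hN1 : N.card = 1 := by
    have hS66 := Finset.sum_le_card_nsmul S n 66 fun χ hχ => by
      have := hSdeg χ hχ; omega
    have hsplit := Finset.sum_filter_add_sum_filter_not N (fun χ => n χ = 24) n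
    have hcs := N.card_filter_add_card_filter_not (fun χ => n χ = 24)
    have hc1 : (N.filter fun χ => n χ = 24).card ≤ 1 := Finset.card_le_one.mpr fun χ hχ ψ hψ =>
      h24 χ (Finset.mem_filter.mp hχ).1 ψ (Finset.mem_filter.mp hψ).1 (Finset.mem_filter.mp hχ).2
        (Finset.mem_filter.mp hψ).2
    rw [Finset.sum_const_nat (m := 24) fun χ hχ => (Finset.mem_filter.mp hχ).2,
      Finset.sum_const_nat (m := 44) fun χ hχ => ?_] at hsplit
    · rw [smul_eq_mul] at hS66
      have hrel2 := hsplit.trans hrel'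
      rcases Nat.lt_trichotomy N.card 2 with h | h | h
      · rcases Nat.eq_zero_or_pos N.card with h0 | h0
        · rw [Finset.card_eq_zero.mp h0, Finset.sum_empty] at hrel'
          omega
        · omega
      · obtain ⟨p, q, hpq, hp⟩ := Finset.card_eq_two.mp (show S.card = 2 by omega)
        obtain ⟨r, s, hrs, hr⟩ := Finset.card_eq_two.mp h
        rw [hr, hp, Finset.sum_pair hpq, Finset.sum_pair hrs] at hrel'
        have e1 := hSdeg p (by simp [hp])
        have e2 := hSdeg q (by simp [hp])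
        have e3 := hNdeg r (by simp [hr])
        have e4 := hNdeg s (by simp [hr])
        have e5 : ¬ (n r = 24 ∧ n s = 24) := fun e => hrs
          (h24 r (by simp [hr]) s (by simp [hr]) e.1 e.2)
        omega
      · exfalso
        linarith
    · obtain ⟨hχN, hχ24⟩ := Finset.mem_filter.mp hχ
      rcases hNdeg χ hχN with h | h
      · exact absurd h.1 hχ24
      · exact h
  obtain ⟨e, he⟩ := Finset.card_eq_one.mp hN1
  have heN : e ∈ N := by simp [he]
  refine ⟨n, W, e, S, fun χ => ⟨hn χ, hn0 χ⟩, Finset.card_pos.mp (by omega), ?_, ?_, ?_, ?_, ?_,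
    horth⟩
  · exact fun h => Finset.ne_of_mem_erase (Finset.mem_filter.mp h).1 rfl
  · intro h
    have h1 := (Finset.mem_filter.mp h).2
    rw [(Finset.mem_filter.mp heN).2] at h1
    norm_num at h1
  · exact Finset.ne_of_mem_erase (Finset.mem_filter.mp heN).1
  · rw [he, Finset.sum_singleton] at hrel'
    exact hrel'
  · intro χ
    split_ifs with h1 h2
    · rw [h1]; exact (Finset.mem_filter.mp heN).2
    · rcases h2 with h2 | h2
      · rw [h2]; exact hW1
      · exact (Finset.mem_filter.mp h2).2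
    · push Not at h2
      rcases hunit χ h2.1 with h | h | h
      · exact absurd (Finset.mem_singleton.mp (he ▸ Finset.mem_filter.mpr
          ⟨Finset.mem_erase.mpr ⟨h2.1, Finset.mem_univ _⟩, h⟩)) h1
      · exact absurd (Finset.mem_filter.mpr
          ⟨Finset.mem_erase.mpr ⟨h2.1, Finset.mem_univ _⟩, h⟩) h2.2
      · exact h

/-- Every involution inverts an element of order five. -/
theorem exists_inverted_five (hG : IsM11 G) {l : G} (hl : orderOf l = 2) :
    ∃ u : G, orderOf u = 5 ∧ l * u * l = u⁻¹ := by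
  classical
  haveI := Fintype.ofFinite G
  haveI := hG.1
  haveI : Fact (Nat.Prime 5) := ⟨by norm_num⟩
  obtain ⟨y, hy⟩ := exists_prime_orderOf_dvd_card' (G := G) 5 (by rw [hG.2]; norm_num)
  obtain ⟨n, W, e, S, hn, hSne, htS, heS, het, hrel, hW, horth⟩ := exists_negative hG hy
  by_contra hc
  push Not at hc
  have hll : l * l = 1 := by rw [← pow_two, ← hl, pow_orderOf_eq_one]
  have hl1 : l ≠ 1 := fun h => by rw [h, orderOf_one] at hl; omega
  have hprod : ∀ h : G, orderOf (l * (h * l * h⁻¹)) ≠ 5 := by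
    intro h h5
    refine hc _ h5 ?_
    have hlinv : l⁻¹ = l := inv_eq_of_mul_eq_one_right hll
    rw [← mul_assoc l l, hll, one_mul, mul_inv_rev, hlinv, mul_inv_rev, mul_inv_rev, inv_inv, hlinv]
    group
  choose z hz using fun χ : IrrCharacter G => exists_int_apply_involution χ hl
  have hquad : ∑ χ : IrrCharacter G, (W χ : ℂ) * (z χ : ℂ) ^ 2 / (n χ : ℂ) = 0 := by
    have h0 : ∑ h : G, ∑ χ : IrrCharacter G,
        (χ : G → ℂ) (l * (h * l * h⁻¹)) * (W χ : ℂ) = 0 :=
      Finset.sum_eq_zero fun h _ => horth _ (hprod h)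
    rw [Finset.sum_comm] at h0
    simp only [← Finset.sum_mul, CharCount.sum_conj_mul] at h0
    refine mul_left_cancel₀ (natCard_ne_zero (G := G)) ?_
    rw [mul_zero, ← h0, Finset.mul_sum]
    exact Finset.sum_congr rfl fun χ _ => by rw [hz, (hn χ).1]; ring
  have hlin : ∑ χ : IrrCharacter G, (z χ : ℂ) * (W χ : ℂ) = 0 := by
    rw [← horth l (by omega)]
    exact Finset.sum_congr rfl fun χ _ => by rw [hz]
  have hsupp : ∀ f : IrrCharacter G → ℚ, ∑ χ : IrrCharacter G, f χ * (W χ : ℚ) =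
      f e - (f (trivialIrr G) + ∑ χ ∈ S, f χ) := by
    intro f
    have hsub := Finset.sum_subset (f := fun χ => f χ * (W χ : ℚ))
      (Finset.subset_univ (insert e (insert (trivialIrr G) S))) (fun χ _ hχ => by
        simp only [Finset.mem_insert, not_or] at hχ
        show f χ * (W χ : ℚ) = 0
        rw [hW χ, if_neg hχ.1, if_neg (not_or.mpr hχ.2), Int.cast_zero, mul_zero])
    rw [← hsub, Finset.sum_insert (by simp [het, heS]), ← Finset.sum_insert htS,
      Finset.sum_congr rfl (s₂ := insert (trivialIrr G) S) (g := fun χ => -f χ) fun χ hχ => ?_,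
      Finset.sum_neg_distrib, hW e, if_pos rfl]
    · push_cast; ring
    · have hne : χ ≠ e := by
        rintro rfl
        rcases Finset.mem_insert.mp hχ with h | h
        · exact het h
        · exact heS h
      rw [hW χ, if_neg hne, if_pos (Finset.mem_insert.mp hχ)]
      push_cast; ring
  have ht : z (trivialIrr G) = 1 := by
    have := hz (trivialIrr G)
    rw [trivialIrr_apply] at this
    exact_mod_cast this.symm
  have htn : n (trivialIrr G) = 1 := by
    have := (hn (trivialIrr G)).1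
    rw [trivialIrr_apply] at this
    exact_mod_cast this.symm
  have h1 : (z e : ℚ) = 1 + ∑ χ ∈ S, (z χ : ℚ) := by
    have h := hsupp fun χ => (z χ : ℚ)
    rw [show (∑ χ : IrrCharacter G, (z χ : ℚ) * (W χ : ℚ)) = 0 from
      Rat.cast_injective (α := ℂ) (by push_cast; exact hlin)] at h
    simp only [ht, Int.cast_one] at h
    linarith
  have h2 : (z e : ℚ) ^ 2 / n e = 1 + ∑ χ ∈ S, (z χ : ℚ) ^ 2 / n χ := by
    have h := hsupp fun χ => (z χ : ℚ) ^ 2 / n χ
    rw [show (∑ χ : IrrCharacter G, (z χ : ℚ) ^ 2 / n χ * (W χ : ℚ)) = 0 from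
      Rat.cast_injective (α := ℂ) (by
        push_cast
        rw [← hquad]
        exact Finset.sum_congr rfl fun χ _ => by ring)] at h
    simp only [ht, htn, Int.cast_one, Nat.cast_one] at h
    linarith
  have h3 : (n e : ℚ) = 1 + ∑ χ ∈ S, (n χ : ℚ) := by exact_mod_cast hrel
  have hne : (n e : ℚ) ≠ 0 := Nat.cast_ne_zero.mpr (hn e).2.ne'
  set r : ℚ := z e / n e with hr
  have hexp : (1 - r) ^ 2 + ∑ χ ∈ S, ((z χ : ℚ) - r * n χ) ^ 2 / n χ = 0 := by
    have hterm : ∀ χ ∈ S, ((z χ : ℚ) - r * n χ) ^ 2 / n χ =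
        (z χ : ℚ) ^ 2 / n χ - 2 * r * z χ + r ^ 2 * n χ := fun χ _ => by
      have : (n χ : ℚ) ≠ 0 := Nat.cast_ne_zero.mpr (hn χ).2.ne'
      field_simp
      ring
    rw [Finset.sum_congr rfl hterm, Finset.sum_add_distrib, Finset.sum_sub_distrib,
      ← Finset.mul_sum, ← Finset.mul_sum]
    have e1 : ∑ χ ∈ S, (z χ : ℚ) = z e - 1 := by linarith
    have e2 : ∑ χ ∈ S, (n χ : ℚ) = n e - 1 := by linarith
    have e3 : ∑ χ ∈ S, (z χ : ℚ) ^ 2 / n χ = (z e : ℚ) ^ 2 / n e - 1 := by linarith
    rw [e1, e2, e3, hr]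
    field_simp
    ring
  have hnn : ∀ χ ∈ S, (0 : ℚ) ≤ ((z χ : ℚ) - r * n χ) ^ 2 / n χ := fun χ _ =>
    div_nonneg (sq_nonneg _) (Nat.cast_nonneg _)
  have hparts := (add_eq_zero_iff_of_nonneg (sq_nonneg (1 - r)) (Finset.sum_nonneg hnn)).mp hexp
  have hr1 : r = 1 := by
    have := pow_eq_zero_iff (n := 2) (by norm_num) |>.mp hparts.1
    linarith
  obtain ⟨χ, hχ⟩ := hSne
  have hz0 := (Finset.sum_eq_zero_iff_of_nonneg hnn).mp hparts.2 χ hχ
  rw [div_eq_zero_iff] at hz0
  rcases hz0 with h | h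
  · rw [pow_eq_zero_iff (by norm_num), hr1, one_mul, sub_eq_zero] at h
    have heq : (χ : G → ℂ) l = (χ : G → ℂ) 1 := by
      rw [hz, (hn χ).1]
      have h' : z χ = (n χ : ℤ) := by exact_mod_cast h
      rw [h']
      push_cast
      rfl
    refine hl1 (BrauerTuan.faithful_of_ne_trivial (fun h' => htS (h' ▸ hχ)) heq)
  · exact absurd (Nat.cast_eq_zero.mp h) (hn χ).2.ne'

end Cfsg.Agent.Lib.Order7920
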