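/-
A simple group of order 7920 has one class of involutions, with centralizers of order 48.
-/
import Mathlib
import Cfsg.Agent.Lib.SmallGroups.Intersection
import Cfsg.Agent.Lib.Order7920.Column

set_option autoImplicit false
set_option linter.style.haveILetI false

namespace Cfsg.Agent.Lib.Order7920

open Subgroup MulAction Cfsg Cfsg.Agent.Lib.SmallGroups

universe u

variable {G : Type u} [Group G] [Finite G]

theorem mul_self_of_two {t : G} (ht : orderOf t = 2) : t * t = 1 := by
  rw [← pow_two, ← ht, pow_orderOf_eq_one]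

/-- An involution normalizing `⟨y⟩` inverts `y`, when `y` has a centralizer of order five. -/
theorem inverts_of_mem_normalizer (hG : IsM11 G) {y s : G} (hy : orderOf y = 5)
    (hs : orderOf s = 2) (hn : s ∈ normalizer ((zpowers y : Subgroup G) : Set G)) :
    s * y * s = y⁻¹ := by
  have hss := mul_self_of_two hs
  have hsinv : s⁻¹ = s := inv_eq_of_mul_eq_one_right hss
  obtain ⟨i, hi⟩ := mem_zpowers_iff.mp ((mem_normalizer_iff.mp hn y).mp (mem_zpowers y))
  rw [hsinv] at hi
  have h1 : y ^ (i * i) = y := by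
    calc y ^ (i * i) = (s * y * s) ^ i := by rw [zpow_mul, hi]
      _ = s * y ^ i * s⁻¹ := by rw [← conj_zpow, hsinv]
      _ = s * (s * y * s) * s := by rw [hi, hsinv]
      _ = y := by rw [← mul_assoc, ← mul_assoc, hss, one_mul, mul_assoc, hss, mul_one]
  have h2 : (5 : ℤ) ∣ i * i - 1 := by
    have : y ^ (i * i - 1) = 1 := by rw [zpow_sub_one, h1, mul_inv_cancel]
    have := orderOf_dvd_iff_zpow_eq_one.mpr this
    rwa [hy] at this
  have h3 : (5 : ℤ) ∣ i - 1 ∨ (5 : ℤ) ∣ i + 1 := by
    rw [show i * i - 1 = (i - 1) * (i + 1) by ring] at h2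
    exact (Int.prime_iff_natAbs_prime.mpr (by norm_num)).dvd_or_dvd h2
  rcases h3 with h3 | h3
  · exfalso
    have he : y ^ (i - 1) = 1 := orderOf_dvd_iff_zpow_eq_one.mp (by rw [hy]; exact_mod_cast h3)
    rw [zpow_sub_one, mul_inv_eq_one] at he
    rw [he] at hi
    have hcom : Commute s y := by
      calc s * y = s * y * (s * s) := by rw [hss, mul_one]
        _ = (s * y * s) * s := by rw [← mul_assoc]
        _ = y * s := by rw [← hi]
    have := Subgroup.orderOf_dvd_natCard _
      (mem_centralizer_singleton_iff.mpr hcom.eq : s ∈ centralizer ({y} : Set G))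
    rw [hs, card_centralizer_five hG hy] at this
    omega
  · have he : y ^ (i + 1) = 1 := orderOf_dvd_iff_zpow_eq_one.mp (by rw [hy]; exact_mod_cast h3)
    rw [zpow_add_one] at he
    rw [← hi]
    exact eq_inv_of_mul_eq_one_left he

/-- The involutions inverting `y` are conjugate under `⟨y⟩`. -/
theorem isConj_of_inverts (hG : IsM11 G) {y s t : G} (hy : orderOf y = 5) (hs : orderOf s = 2)
    (ht : orderOf t = 2) (hsy : s * y * s = y⁻¹) (hty : t * y * t = y⁻¹) : IsConj t s := by
  have hss := mul_self_of_two hs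
  have htt := mul_self_of_two ht
  have hty' : t * y⁻¹ * t = y := by
    rw [← hty, ← mul_assoc, ← mul_assoc, htt, one_mul, mul_assoc, htt, mul_one]
  have hcom : Commute (s * t) y := by
    have hsy' : s * y⁻¹ * s = y := by
      rw [← hsy, ← mul_assoc, ← mul_assoc, hss, one_mul, mul_assoc, hss, mul_one]
    calc s * t * y = s * (t * y * t) * t := by
          rw [mul_assoc s, mul_assoc s (t * y * t), mul_assoc (t * y) t t, htt, mul_one]
      _ = (s * y⁻¹ * s) * s * t := by
          rw [hty, mul_assoc (s * y⁻¹) s s, hss, mul_one]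
      _ = y * (s * t) := by rw [hsy', mul_assoc]
  have hmem : s * t ∈ zpowers y := by
    have heq : zpowers y = centralizer ({y} : Set G) := Subgroup.eq_of_le_of_card_ge
      (zpowers_le.mpr (mem_centralizer_singleton_iff.mpr rfl))
      (by rw [Nat.card_zpowers, hy, card_centralizer_five hG hy])
    rw [heq]
    exact mem_centralizer_singleton_iff.mpr hcom.eq
  obtain ⟨i, hi⟩ := mem_zpowers_iff.mp hmem
  change y ^ i = s * t at hi
  refine isConj_iff.mpr ⟨y ^ (3 * i), ?_⟩
  have h1 : t * (y ^ (3 * i))⁻¹ = y ^ (3 * i) * t := by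
    have h := congrArg (fun v : G => v * t) (show t * (y ^ (3 * i))⁻¹ * t = y ^ (3 * i) by
      have e : (MulAut.conj t) ((y⁻¹) ^ (3 * i)) = y ^ (3 * i) := by
        rw [map_zpow, MulAut.conj_apply, inv_eq_of_mul_eq_one_right htt, hty']
      rwa [MulAut.conj_apply, inv_eq_of_mul_eq_one_right htt, inv_zpow] at e)
    simpa [mul_assoc, htt] using h
  have h5 : y ^ (3 * i + 3 * i) = y ^ i := by
    rw [show 3 * i + 3 * i = i + 5 * i by ring, zpow_add, zpow_mul,
      show y ^ (5 : ℤ) = 1 by
        rw [show (5 : ℤ) = ((5 : ℕ) : ℤ) from rfl, zpow_natCast, ← hy, pow_orderOf_eq_one],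
      one_zpow, mul_one]
  rw [mul_assoc, h1, ← mul_assoc, ← zpow_add, h5, hi, mul_assoc, htt, mul_one]

/-- All involutions are conjugate. -/
theorem isConj_involutions (hG : IsM11 G) {s t : G} (hs : orderOf s = 2) (ht : orderOf t = 2) :
    IsConj t s := by
  haveI : Fact (Nat.Prime 5) := ⟨by norm_num⟩
  haveI := hG.1
  obtain ⟨u, hu, hsu⟩ := exists_inverted_five hG hs
  obtain ⟨v, hv, htv⟩ := exists_inverted_five hG ht
  obtain ⟨U, hU⟩ := exists_sylow_five hG hu
  obtain ⟨V, hV⟩ := exists_sylow_five hG hv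
  obtain ⟨g, hg⟩ := exists_smul_eq G V U
  set t' := g * t * g⁻¹ with ht'
  have ht'2 : orderOf t' = 2 := by rw [ht', ← MulAut.conj_apply, MulEquiv.orderOf_eq, ht]
  have hn : t' ∈ normalizer ((zpowers u : Subgroup G) : Set G) := by
    rw [← hU]
    refine Sylow.smul_eq_iff_mem_normalizer.mp ?_
    rw [← hg, smul_smul, ht', inv_mul_cancel_right, mul_smul]
    congr 1
    rw [Sylow.smul_eq_iff_mem_normalizer]
    have htinv : t⁻¹ = t := inv_eq_of_mul_eq_one_right (mul_self_of_two ht)
    show t ∈ normalizer ((V : Subgroup G) : Set G)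
    rw [hV, mem_normalizer_iff_map_conj_eq, MonoidHom.map_zpowers]
    refine (congrArg zpowers (show MulAut.conj t v = v⁻¹ by
      rw [MulAut.conj_apply, htinv]; exact htv)).trans ?_
    exact zpowers_inv
  exact (isConj_iff.mpr ⟨g, rfl⟩ : IsConj t t').trans
    (isConj_of_inverts hG hu hs ht'2 hsu (inverts_of_mem_normalizer hG hu ht'2 hn))

/-- The class of involutions is large. -/
theorem card_conj_involution (hG : IsM11 G) {t : G} (ht : orderOf t = 2) :
    Nat.card {g : G // IsConj t g} * Nat.card (centralizer ({t} : Set G)) = 7920 := by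
  have e : (G ⧸ centralizer ({t} : Set G)) ≃ {g : G // IsConj t g} :=
    Equiv.ofBijective (fun a => ⟨conjAt t a, isConj_iff.mpr ⟨a.out, rfl⟩⟩)
      ⟨fun a b h => conjAt_injective t (congrArg Subtype.val h), fun g => by
        obtain ⟨c, hc⟩ := isConj_iff.mp g.2
        refine ⟨(c : G ⧸ centralizer ({t} : Set G)), Subtype.ext ?_⟩
        show conjAt t (c : G ⧸ centralizer ({t} : Set G)) = g.1
        have h := QuotientGroup.eq.mp
          (QuotientGroup.out_eq' (c : G ⧸ centralizer ({t} : Set G))).symm
        rw [mem_centralizer_singleton_iff] at h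
        rw [← hc, conjAt]
        set d := (c : G ⧸ centralizer ({t} : Set G)).out
        calc d * t * d⁻¹ = c * (c⁻¹ * d * t) * d⁻¹ := by group
          _ = c * (t * (c⁻¹ * d)) * d⁻¹ := by rw [h]
          _ = c * t * c⁻¹ := by group⟩
  rw [← Nat.card_congr e, ← index_eq_card, mul_comm, card_mul_index, hG.2]

theorem card_centralizer_involution_cases (hG : IsM11 G) {t : G} (ht : orderOf t = 2) :
    Nat.card (centralizer ({t} : Set G)) = 16 ∨ Nat.card (centralizer ({t} : Set G)) = 48 := by
  haveI : Fact (Nat.Prime 5) := ⟨by norm_num⟩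
  haveI := hG.1
  have hna := not_comm hG
  have ht1 : t ≠ 1 := fun h => by rw [h, orderOf_one] at ht; omega
  set C := centralizer ({t} : Set G)
  have h720 := dvd_seventy_twenty hG (not_eleven_dvd_centralizer hG ht1 (by omega))
  have h5 : ¬ 5 ∣ Nat.card C := fun h => by
    obtain ⟨u, hu, hu5⟩ := exists_mem_orderOf 5 h
    have := Subgroup.orderOf_dvd_natCard _
      (mem_centralizer_singleton_iff.mpr (mem_centralizer_singleton_iff.mp hu).symm :
        t ∈ centralizer ({u} : Set G))
    rw [ht, card_centralizer_five hG hu5] at this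
    omega
  -- incidence with the Sylow 5-subgroups
  obtain ⟨y, hy, hty⟩ := exists_inverted_five hG ht
  have hNcard := card_normalizer_zpowers_five hG hy
  set NY := normalizer ((zpowers y : Subgroup G) : Set G)
  have hcount := card_fixedBy_mul_card_conj NY t
  have hinv : Nat.card {g : G // IsConj t g ∧ g ∈ NY} = 5 := by
    have htt := mul_self_of_two ht
    have htinv : t⁻¹ = t := inv_eq_of_mul_eq_one_right htt
    have htN : t ∈ NY := by
      rw [mem_normalizer_iff_map_conj_eq, MonoidHom.map_zpowers]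
      exact (congrArg zpowers (show MulAut.conj t y = y⁻¹ by
        rw [MulAut.conj_apply, htinv]; exact hty)).trans zpowers_inv
    let f : zpowers y → {g : G // IsConj t g ∧ g ∈ NY} := fun v => by
      refine ⟨(v : G) * t, ?_, NY.mul_mem (le_normalizer v.2) htN⟩
      obtain ⟨i, hi⟩ := mem_zpowers_iff.mp v.2
      have hc : t * (v : G) * t = (v : G)⁻¹ := by
        rw [← hi]
        have e : MulAut.conj t (y ^ i) = (y⁻¹) ^ i := by
          rw [map_zpow, MulAut.conj_apply, htinv, hty]
        rwa [MulAut.conj_apply, htinv, inv_zpow] at e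
      have hs2 : orderOf ((v : G) * t) = 2 := by
        refine orderOf_eq_prime ?_ fun h => ?_
        · rw [pow_two, mul_assoc, ← mul_assoc t, hc, mul_inv_cancel]
        · have hmem : t ∈ zpowers y := by
            rw [← inv_mul_cancel_left (v : G) t, h, mul_one]; exact inv_mem v.2
          have := Subgroup.orderOf_dvd_natCard _ hmem
          rw [Nat.card_zpowers, hy, ht] at this
          omega
      exact isConj_involutions hG hs2 ht
    rw [← Nat.card_congr (Equiv.ofBijective f ⟨fun a b h => Subtype.ext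
      (mul_right_cancel (congrArg Subtype.val h : (a : G) * t = b * t)), fun g => ?_⟩),
      Nat.card_zpowers, hy]
    obtain ⟨g, hgc, hgN⟩ := g
    have hg2 : orderOf g = 2 := by
      obtain ⟨c, hc⟩ := isConj_iff.mp hgc
      rw [← hc, ← MulAut.conj_apply, MulEquiv.orderOf_eq, ht]
    have hgy := inverts_of_mem_normalizer hG hy hg2 hgN
    have heq : zpowers y = centralizer ({y} : Set G) := Subgroup.eq_of_le_of_card_ge
      (zpowers_le.mpr (mem_centralizer_singleton_iff.mpr rfl))
      (by rw [Nat.card_zpowers, hy, card_centralizer_five hG hy])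
    have hmem : g * t ∈ zpowers y := by
      rw [heq, mem_centralizer_singleton_iff]
      have hgg := mul_self_of_two hg2
      have hgy' : g * y⁻¹ * g = y := by
        rw [← hgy, ← mul_assoc, ← mul_assoc, hgg, one_mul, mul_assoc, hgg, mul_one]
      calc g * t * y = g * (t * y * t) * t := by
            rw [mul_assoc g, mul_assoc g (t * y * t), mul_assoc (t * y) t t, htt, mul_one]
        _ = (g * y⁻¹ * g) * g * t := by rw [hty, mul_assoc (g * y⁻¹) g g, hgg, mul_one]
        _ = y * (g * t) := by rw [hgy', mul_assoc]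
    exact ⟨⟨g * t, hmem⟩, Subtype.ext (by show g * t * t = g; rw [mul_assoc, htt, mul_one])⟩
  have hidx : NY.index = 396 := by
    have := NY.card_mul_index
    rw [hNcard, hG.2] at this
    omega
  rw [hinv, hidx] at hcount
  have hmod := card_fixedBy_mod_four hna (X := G ⧸ NY) ht
  rw [← index_eq_card, hidx] at hmod
  have hK := card_conj_involution hG ht
  -- pairs of conjugate involutions with a product of order five
  have hsq : 7920 ≤ Nat.card {g : G // IsConj t g} * Nat.card {g : G // IsConj t g} := by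
    have hu : ∀ u : {u : G // orderOf u = 5}, ∃ s : G, orderOf s = 2 ∧ s * u.1 * s = u.1⁻¹ := by
      intro u
      obtain ⟨U, hU⟩ := exists_sylow_five hG u.2
      obtain ⟨V, hV⟩ := exists_sylow_five hG hy
      obtain ⟨g, hg⟩ := exists_smul_eq G V U
      refine ⟨g * t * g⁻¹, by rw [← MulAut.conj_apply, MulEquiv.orderOf_eq, ht],
        inverts_of_mem_normalizer hG u.2 (by rw [← MulAut.conj_apply, MulEquiv.orderOf_eq, ht]) ?_⟩
      rw [← hU]
      refine Sylow.smul_eq_iff_mem_normalizer.mp ?_
      rw [← hg, smul_smul, inv_mul_cancel_right, mul_smul]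
      congr 1
      rw [Sylow.smul_eq_iff_mem_normalizer]
      show t ∈ normalizer ((V : Subgroup G) : Set G)
      rw [hV, mem_normalizer_iff_map_conj_eq, MonoidHom.map_zpowers]
      exact (congrArg zpowers (show MulAut.conj t y = y⁻¹ by
        rw [MulAut.conj_apply, inv_eq_of_mul_eq_one_right (mul_self_of_two ht)]; exact hty)).trans
          zpowers_inv
    choose s hs2 hsu using hu
    have hprod : Nat.card ({u : G // orderOf u = 5} × Fin 5) = 7920 := by
      obtain ⟨Y, hY⟩ := exists_sylow_five hG hy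
      rw [Nat.card_prod, card_orderOf_eq_prime Y (by rw [hY, Nat.card_zpowers, hy]),
        card_sylow_five hG, Nat.card_eq_fintype_card (α := Fin 5), Fintype.card_fin]
    have hmem : ∀ (u : {u : G // orderOf u = 5}) (n : ℕ), IsConj t (s u * u.1 ^ n) := by
      intro u n
      have hss := mul_self_of_two (hs2 u)
      refine isConj_involutions hG (orderOf_eq_prime ?_ fun h => ?_) ht
      · have e : MulAut.conj (s u) (u.1 ^ n) = (u.1⁻¹) ^ n := by
          rw [map_pow, MulAut.conj_apply, inv_eq_of_mul_eq_one_right hss, hsu]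
        rw [MulAut.conj_apply, inv_eq_of_mul_eq_one_right hss, inv_pow] at e
        rw [pow_two, ← mul_assoc, e, inv_mul_cancel]
      · have hmem : s u ∈ zpowers u.1 := by
          rw [← mul_inv_cancel_right (s u) (u.1 ^ n), h, one_mul]
          exact inv_mem (pow_mem (mem_zpowers _) n)
        have := Subgroup.orderOf_dvd_natCard _ hmem
        rw [Nat.card_zpowers, u.2, hs2] at this
        omega
    rw [← hprod, ← Nat.card_prod]
    refine Nat.card_le_card_of_injective (fun p => (⟨s p.1 * p.1.1 ^ p.2.val, hmem p.1 p.2.val⟩,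
      ⟨s p.1 * p.1.1 ^ (p.2.val + 1), hmem p.1 _⟩)) ?_
    rintro ⟨u, i⟩ ⟨v, j⟩ h
    rw [Prod.mk.injEq] at h
    have h1 : s u * u.1 ^ i.val = s v * v.1 ^ j.val := congrArg Subtype.val h.1
    have h2 : s u * u.1 ^ (i.val + 1) = s v * v.1 ^ (j.val + 1) := congrArg Subtype.val h.2
    rw [pow_succ, pow_succ, ← mul_assoc, ← mul_assoc, h1] at h2
    obtain rfl : u = v := Subtype.ext (mul_left_cancel h2)
    refine Prod.ext rfl (Fin.ext ?_)
    have h3 : u.1 ^ i.val = u.1 ^ j.val := mul_left_cancel h1
    exact pow_injOn_Iio_orderOf (by rw [Set.mem_Iio, u.2]; exact i.isLt)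
      (by rw [Set.mem_Iio, u.2]; exact j.isLt) h3
  -- arithmetic
  set f := Nat.card (fixedBy (G ⧸ NY) t)
  set K := Nat.card {g : G // IsConj t g}
  set c := Nat.card C
  have hc4 : c = 4 * f := by
    have e : f * K * c = 396 * 5 * c := by rw [hcount]
    rw [mul_assoc, hK] at e
    omega
  have h16 : 16 ∣ c := ⟨f / 4, by omega⟩
  obtain ⟨j, hj⟩ := h16
  rw [hj] at h720 h5 hK ⊢
  have hj45 : j ∣ 45 := Nat.dvd_of_mul_dvd_mul_left (by norm_num : 0 < 16)
    (show 16 * j ∣ 16 * 45 by simpa using h720)
  have := Nat.mem_divisors.mpr ⟨hj45, (by norm_num : (45 : ℕ) ≠ 0)⟩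
  rw [show Nat.divisors 45 = {1, 3, 5, 9, 15, 45} by decide] at this
  simp only [Finset.mem_insert, Finset.mem_singleton] at this
  rcases this with rfl | rfl | rfl | rfl | rfl | rfl
  · exact Or.inl rfl
  · exact Or.inr rfl
  all_goals exfalso
  · exact h5 (by norm_num)
  · have : K = 55 := by omega
    rw [this] at hsq
    norm_num at hsq
  · exact h5 (by norm_num)
  · exact h5 (by norm_num)

end Cfsg.Agent.Lib.Order7920
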