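/-
A simple group of order 7920: involution centralizers have order 48 and Sylow 3-normalizers order 144.
-/
import Mathlib
import Cfsg.Agent.Lib.Order7920.Invol

set_option autoImplicit false
set_option linter.style.haveILetI false

namespace Cfsg.Agent.Lib.Order7920

open Subgroup MulAction Cfsg Cfsg.Agent.Lib.SmallGroups

universe u

variable {G : Type u} [Group G] [Finite G]

theorem exists_sylow_three_mem [Fact (Nat.Prime 3)] {z : G} (hz : orderOf z = 3) :
    ∃ P : Sylow 3 G, z ∈ (P : Subgroup G) := by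
  obtain ⟨P, hP⟩ := (IsPGroup.of_card (n := 1)
    (by rw [Nat.card_zpowers, hz, pow_one] : Nat.card (zpowers z) = 3 ^ 1)).exists_le_sylow
  exact ⟨P, hP (mem_zpowers z)⟩

/-- Centralizers of elements of order three are `{2, 3}`-groups containing a Sylow 3-subgroup. -/
theorem centralizer_three_dvd (hG : IsM11 G) {z : G} (hz : orderOf z = 3) :
    9 ∣ Nat.card (centralizer ({z} : Set G)) ∧ Nat.card (centralizer ({z} : Set G)) ∣ 144 := by
  haveI : Fact (Nat.Prime 3) := ⟨Nat.prime_three⟩
  haveI : Fact (Nat.Prime 5) := ⟨by norm_num⟩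
  have hz1 : z ≠ 1 := fun h => by rw [h, orderOf_one] at hz; omega
  constructor
  · obtain ⟨P, hP⟩ := exists_sylow_three_mem hz
    rw [← card_sylow_three_eq hG P]
    refine card_dvd_of_le fun v hv => mem_centralizer_singleton_iff.mpr ?_
    exact (commute_of_card_nine (card_sylow_three_eq hG P) hv hP).eq
  · have h720 := dvd_seventy_twenty hG (not_eleven_dvd_centralizer hG hz1 (by omega))
    have h5 : ¬ 5 ∣ Nat.card (centralizer ({z} : Set G)) := fun h => by
      obtain ⟨u, hu, hu5⟩ := exists_mem_orderOf 5 h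
      have := Subgroup.orderOf_dvd_natCard _
        (mem_centralizer_singleton_iff.mpr (mem_centralizer_singleton_iff.mp hu).symm :
          z ∈ centralizer ({u} : Set G))
      rw [hz, card_centralizer_five hG hu5] at this
      omega
    exact ((Nat.Prime.coprime_iff_not_dvd (by norm_num : Nat.Prime 5)).mpr h5).symm
      |>.dvd_of_dvd_mul_left (show _ ∣ 5 * 144 by simpa using h720)

theorem card_sylow_three_cases (hG : IsM11 G) [Fact (Nat.Prime 3)] :
    Nat.card (Sylow 3 G) = 55 ∨ Nat.card (Sylow 3 G) = 220 := by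
  haveI := hG.1
  haveI : Fact (Nat.Prime 5) := ⟨by norm_num⟩
  haveI : Fact (Nat.Prime 11) := ⟨by norm_num⟩
  have hna := not_comm hG
  have hmem := card_sylow_mem hna (p := 3) (k := 2) (m := 880) (by rw [hG.2]; norm_num) (by norm_num)
    two_ne_zero
  rw [show (Nat.divisors 880).filter (fun d => d % 3 = 1 ∧ d ≠ 1) =
    {4, 10, 16, 22, 40, 55, 88, 220, 880} by decide +kernel] at hmem
  simp only [Finset.mem_insert, Finset.mem_singleton] at hmem
  have P : Sylow 3 G := default
  have hP := card_sylow_three_eq hG P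
  have hn := card_normalizer_sylow_mul P
  rw [hG.2] at hn
  have hfree : ∀ p : ℕ, [Fact p.Prime] → (p = 5 ∨ p = 11) →
      ¬ p ∣ Nat.card (normalizer ((P : Subgroup G) : Set G)) := by
    intro p hp hpc h
    obtain ⟨x, hxN, hx⟩ := exists_mem_orderOf p h
    have hc := commute_of_normalizes_nine hP (by omega) hx hxN
    have h9 : 9 ∣ Nat.card (centralizer ({x} : Set G)) := hP ▸ card_dvd_of_le fun v hv =>
      mem_centralizer_singleton_iff.mpr (hc v hv).eq.symm
    rcases hpc with rfl | rfl
    · rw [card_centralizer_five hG hx] at h9; omega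
    · rw [card_centralizer_eleven hG hx] at h9; omega
  have h5 := hfree 5 (Or.inl rfl)
  have h11 := hfree 11 (Or.inr rfl)
  rcases hmem with h | h | h | h | h | h | h | h | h <;> rw [h] at hn
  iterate 3 exact absurd (⟨_, (by omega : Nat.card (normalizer ((P : Subgroup G) : Set G)) =
    11 * (Nat.card (normalizer ((P : Subgroup G) : Set G)) / 11))⟩) h11
  · exact absurd (⟨72, by omega⟩ : 5 ∣ _) h5
  · exact absurd (⟨18, by omega⟩ : 11 ∣ _) h11
  · exact Or.inl h
  · exact absurd (⟨18, by omega⟩ : 5 ∣ _) h5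
  · exact Or.inr h
  · exfalso
    haveI := IsPGroup.isMulCommutative_of_card_eq_prime_sq (G := (P : Subgroup G)) (p := 3)
      (by rw [hP]; norm_num)
    refine normalizer_ne_self_of_isMulCommutative hna (by rw [hG.2]; norm_num) P ?_
    exact (Subgroup.eq_of_le_of_card_ge le_normalizer (by rw [hP]; omega)).symm

/-- A count of a subgroup through the conjugation orbit of one element. -/
theorem card_le_orbit_mul {N C : Subgroup G} {z : G} {S : Set G}
    (hC : ∀ g ∈ N, g * z = z * g → g ∈ C) (hS : ∀ g ∈ N, g * z * g⁻¹ ∈ S) :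
    Nat.card N ≤ Nat.card S * Nat.card C := by
  classical
  have hsec : ∀ g : N, ∃ g0 : N, (g0 : G) * z * (g0 : G)⁻¹ = g * z * (g : G)⁻¹ := fun g => ⟨g, rfl⟩
  let sec : S → N := fun v =>
    if h : ∃ g0 : N, (g0 : G) * z * (g0 : G)⁻¹ = v then h.choose else 1
  have hsec' : ∀ g : N, (sec ⟨_, hS g g.2⟩ : G) * z * (sec ⟨_, hS g g.2⟩ : G)⁻¹ =
      g * z * (g : G)⁻¹ := by
    intro g
    simp only [sec]
    rw [dif_pos ⟨g, rfl⟩]
    exact (Exists.choose_spec (⟨g, rfl⟩ :
      ∃ g0 : N, (g0 : G) * z * (g0 : G)⁻¹ = g * z * (g : G)⁻¹))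
  rw [← Nat.card_prod]
  refine Nat.card_le_card_of_injective (fun g => (⟨_, hS g g.2⟩,
    ⟨(sec ⟨_, hS g g.2⟩ : G)⁻¹ * g, hC _ (N.mul_mem (inv_mem (sec _).2) g.2) ?_⟩)) ?_
  · set d := (sec ⟨_, hS g g.2⟩ : G) with hd
    calc d⁻¹ * g * z = d⁻¹ * ((g : G) * z * (g : G)⁻¹) * g := by group
      _ = d⁻¹ * (d * z * d⁻¹) * g := by rw [← hsec' g]
      _ = z * (d⁻¹ * g) := by group
  · intro a b h
    rw [Prod.mk.injEq] at h
    have h2 : ((sec ⟨_, hS a a.2⟩ : G))⁻¹ * a = ((sec ⟨_, hS b b.2⟩ : G))⁻¹ * b :=
      congrArg Subtype.val h.2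
    rw [h.1] at h2
    exact Subtype.ext (mul_left_cancel h2)

/-- Involution centralizers have order 48. -/
theorem card_centralizer_involution (hG : IsM11 G) {t : G} (ht : orderOf t = 2) :
    Nat.card (centralizer ({t} : Set G)) = 48 := by
  haveI := hG.1
  haveI : Fact (Nat.Prime 3) := ⟨Nat.prime_three⟩
  haveI : Fact (Nat.Prime 2) := ⟨Nat.prime_two⟩
  have hna := not_comm hG
  refine (card_centralizer_involution_cases hG ht).resolve_left fun h16 => ?_
  -- no element of order three commutes with an involution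
  have hC9 : ∀ z : G, orderOf z = 3 → Nat.card (centralizer ({z} : Set G)) = 9 := by
    intro z hz
    obtain ⟨⟨j, hj⟩, h144⟩ := centralizer_three_dvd hG hz
    rw [hj] at h144
    have hodd : ¬ 2 ∣ Nat.card (centralizer ({z} : Set G)) := fun h2 => by
      obtain ⟨s, hs, hs2⟩ := exists_mem_orderOf 2 h2
      have h48 : ∀ c : G, Nat.card (centralizer ({c * t * c⁻¹} : Set G)) = 16 := by
        intro c
        rw [← h16]
        refine (Nat.card_congr ((MulAut.conj c).toEquiv.subtypeEquiv fun x => ?_)).symm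
        show x ∈ centralizer ({t} : Set G) ↔ MulAut.conj c x ∈ centralizer ({c * t * c⁻¹} : Set G)
        rw [mem_centralizer_singleton_iff, mem_centralizer_singleton_iff, ← MulAut.conj_apply,
          ← map_mul, ← map_mul, (MulAut.conj c).injective.eq_iff]
      obtain ⟨c, hc⟩ := isConj_iff.mp (isConj_involutions hG hs2 ht)
      have := Subgroup.orderOf_dvd_natCard _
        (mem_centralizer_singleton_iff.mpr (mem_centralizer_singleton_iff.mp hs).symm :
          z ∈ centralizer ({s} : Set G))
      rw [hz, ← hc, h48] at this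
      omega
    rw [hj] at hodd ⊢
    have hd : j ∣ 16 := Nat.dvd_of_mul_dvd_mul_left (by norm_num : 0 < 9)
      (show 9 * j ∣ 9 * 16 by simpa using h144)
    have := Nat.mem_divisors.mpr ⟨hd, (by norm_num : (16 : ℕ) ≠ 0)⟩
    rw [show Nat.divisors 16 = {1, 2, 4, 8, 16} by decide] at this
    simp only [Finset.mem_insert, Finset.mem_singleton] at this
    omega
  -- Sylow 3-subgroups meet trivially
  have h55 : Nat.card (Sylow 3 G) = 55 := by
    refine (card_sylow_three_cases hG).resolve_right fun h220 => ?_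
    obtain ⟨P, R, hne, hcard, -, -⟩ := exists_inter_index_prime 3
      (G := G) (by rw [h220]; decide)
    rw [card_sylow_three_eq hG P] at hcard
    obtain ⟨z, hzI, hz⟩ := exists_mem_orderOf 3
      (H := (P : Subgroup G) ⊓ (R : Subgroup G)) ⟨1, by omega⟩
    have heq : ∀ Q : Sylow 3 G, z ∈ (Q : Subgroup G) →
        (Q : Subgroup G) = centralizer ({z} : Set G) := fun Q hQ =>
      Subgroup.eq_of_le_of_card_ge (fun v hv => mem_centralizer_singleton_iff.mpr
        (commute_of_card_nine (card_sylow_three_eq hG Q) hv hQ).eq)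
        (by rw [hC9 z hz, card_sylow_three_eq hG Q])
    exact hne (Sylow.ext ((heq P hzI.1).trans (heq R hzI.2).symm))
  have P : Sylow 3 G := default
  have hP := card_sylow_three_eq hG P
  have hN := card_normalizer_sylow_mul P
  rw [h55, hG.2] at hN
  obtain ⟨z, hzP, hz⟩ := exists_mem_orderOf 3 (H := (P : Subgroup G)) (by rw [hP]; norm_num)
  have hle := card_le_orbit_mul (N := normalizer ((P : Subgroup G) : Set G))
    (C := centralizer ({z} : Set G)) (z := z) (S := ((P : Subgroup G) : Set G))
    (fun g _ h => mem_centralizer_singleton_iff.mpr h)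
    (fun g hg => (mem_normalizer_iff.mp hg z).mp hzP)
  rw [show Nat.card ((P : Subgroup G) : Set G) = 9 from hP, hC9 z hz] at hle
  omega

/-- The Sylow 3-number is 55. -/
theorem card_sylow_three (hG : IsM11 G) [Fact (Nat.Prime 3)] : Nat.card (Sylow 3 G) = 55 := by
  haveI := hG.1
  haveI : Fact (Nat.Prime 2) := ⟨Nat.prime_two⟩
  have hna := not_comm hG
  refine (card_sylow_three_cases hG).resolve_right fun h220 => ?_
  obtain ⟨t, ht⟩ := exists_prime_orderOf_dvd_card' (G := G) 2 (by rw [hG.2]; norm_num)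
  have hCt := card_centralizer_involution hG ht
  obtain ⟨z, hzt, hz⟩ := exists_mem_orderOf 3 (H := centralizer ({t} : Set G))
    (by rw [hCt]; norm_num)
  obtain ⟨P, hzP⟩ := exists_sylow_three_mem hz
  have hP := card_sylow_three_eq hG P
  haveI hPab := IsPGroup.isMulCommutative_of_card_eq_prime_sq (G := (P : Subgroup G)) (p := 3)
    (by rw [hP]; norm_num)
  set N := normalizer ((P : Subgroup G) : Set G) with hN
  have hN36 : Nat.card N = 36 := by
    have := card_normalizer_sylow_mul P
    rw [h220, hG.2] at this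
    show Nat.card (normalizer ((P : Subgroup G) : Set G)) = 36
    omega
  -- `C(P) = P`
  have hCP : ∀ g : G, (∀ v ∈ (P : Subgroup G), Commute g v) → g ∈ (P : Subgroup G) := by
    intro g hg
    set CP := centralizer ((P : Subgroup G) : Set G)
    have hle : (P : Subgroup G) ≤ CP := fun v hv => mem_centralizer_iff.mpr fun w hw =>
      (commute_of_card_nine hP hw hv).eq
    suffices h9 : Nat.card CP ≤ 9 by
      rw [Subgroup.eq_of_le_of_card_ge hle (by rw [hP]; exact h9)]
      exact mem_centralizer_iff.mpr fun w hw => (hg w hw).eq.symm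
    have hsub : CP ≤ centralizer ({z} : Set G) := fun w hw =>
      mem_centralizer_singleton_iff.mpr (mem_centralizer_iff.mp hw z hzP).symm
    obtain ⟨j, hj⟩ := hP ▸ card_dvd_of_le hle
    have h36 := card_dvd_of_le (centralizer_le_normalizer' (P : Subgroup G))
    rw [← hN, hN36, hj] at h36
    have hd : j ∣ 4 := Nat.dvd_of_mul_dvd_mul_left (by norm_num : 0 < 9)
      (show 9 * j ∣ 9 * 4 by simpa using h36)
    by_contra hc
    have h2 : 2 ∣ Nat.card CP := by
      have := Nat.mem_divisors.mpr ⟨hd, (by norm_num : (4 : ℕ) ≠ 0)⟩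
      rw [show Nat.divisors 4 = {1, 2, 4} by decide] at this
      simp only [Finset.mem_insert, Finset.mem_singleton] at this
      omega
    obtain ⟨s, hs, hs2⟩ := exists_mem_orderOf 2 h2
    have hPle : (P : Subgroup G) ≤ centralizer ({s} : Set G) := fun v hv =>
      mem_centralizer_singleton_iff.mpr (mem_centralizer_iff.mp hs v hv)
    have := card_dvd_of_le hPle
    rw [hP, card_centralizer_involution hG hs2] at this
    omega
  -- fusion of the elements centralized by involutions
  have hfus : ∀ e : G, orderOf e = 3 → ∀ s : G, orderOf s = 2 → Commute e s →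
      IsConj z e ∨ IsConj z e⁻¹ := by
    intro e he s hs hes
    obtain ⟨c, hc⟩ := isConj_iff.mp (isConj_involutions hG hs ht)
    have he' : orderOf (c⁻¹ * e * c) = 3 := by
      rw [show c⁻¹ * e * c = MulAut.conj c⁻¹ e by simp, MulEquiv.orderOf_eq, he]
    have hmem : c⁻¹ * e * c ∈ centralizer ({t} : Set G) := by
      rw [mem_centralizer_singleton_iff]
      rw [← hc] at hes
      calc c⁻¹ * e * c * t = c⁻¹ * (e * (c * t * c⁻¹)) * c := by group
        _ = c⁻¹ * (c * t * c⁻¹ * e) * c := by rw [hes.eq]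
        _ = t * (c⁻¹ * e * c) := by group
    set H := centralizer ({t} : Set G) with hH
    have h9 : ¬ 3 ^ (1 + 1) ∣ Nat.card H := by rw [hCt]; norm_num
    obtain ⟨Q0, hQ0⟩ := exists_sylow_eq (G := H) (p := 3) (k := 1) (H := (zpowers z).subgroupOf H)
      (by rw [card_subgroupOf, inf_eq_left.mpr (zpowers_le.mpr hzt), Nat.card_zpowers, hz, pow_one]) h9
    obtain ⟨Q1, hQ1⟩ := exists_sylow_eq (G := H) (p := 3) (k := 1)
      (H := (zpowers (c⁻¹ * e * c)).subgroupOf H)
      (by rw [card_subgroupOf, inf_eq_left.mpr (zpowers_le.mpr hmem), Nat.card_zpowers, he', pow_one])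
      h9
    obtain ⟨d, hd⟩ := exists_smul_eq H Q0 Q1
    have hdz : (d : G) * z * (d : G)⁻¹ ∈ zpowers (c⁻¹ * e * c) := by
      have h1 : MulAut.conj d ⟨z, hzt⟩ ∈ (Q1 : Subgroup H) := by
        rw [← hd, Sylow.coe_subgroup_smul]
        exact Subgroup.smul_mem_pointwise_smul _ (MulAut.conj d) _
          (hQ0 ▸ (mem_subgroupOf.mpr (mem_zpowers z)))
      rw [hQ1, mem_subgroupOf] at h1
      exact h1
    have hne1 : (d : G) * z * (d : G)⁻¹ ≠ 1 := by
      rw [Ne, conj_eq_one_iff]
      rintro rfl
      simp at hz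
    rcases mem_zpowers_three he' hdz with h | h | h
    · exact absurd h hne1
    · refine Or.inl (isConj_iff.mpr ⟨c * d, ?_⟩)
      calc c * d * z * (c * d)⁻¹ = c * ((d : G) * z * (d : G)⁻¹) * c⁻¹ := by group
        _ = e := by rw [h]; group
    · refine Or.inr (isConj_iff.mpr ⟨c * d, ?_⟩)
      calc c * d * z * (c * d)⁻¹ = c * ((d : G) * z * (d : G)⁻¹) * c⁻¹ := by group
        _ = e⁻¹ := by rw [h]; group
  -- Burnside fusion
  have hburn : ∀ e ∈ (P : Subgroup G), IsConj z e → ∃ n ∈ N, n * z * n⁻¹ = e := by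
    intro e he hc
    obtain ⟨g, hg⟩ := isConj_iff.mp hc
    obtain ⟨n, hn, hne⟩ := P.conj_eq_normalizer_conj_of_mem z g⁻¹ hzP (by rwa [inv_inv, hg])
    exact ⟨n⁻¹, inv_mem hn, by rw [inv_inv, ← hne, inv_inv, hg]⟩
  have hsquare : ∀ g ∈ N, g ^ 2 = 1 → ∀ v ∈ (P : Subgroup G),
      Commute g (v * (g * v * g⁻¹)) := fun g hg hg2 v hv => by
    have hginv : g⁻¹ = g := inv_eq_of_mul_eq_one_right (by rw [← pow_two, hg2])
    have hgg : g * g = 1 := by rw [← pow_two, hg2]
    have hw : g * v * g⁻¹ ∈ (P : Subgroup G) := (mem_normalizer_iff.mp hg v).mp hv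
    refine mul_inv_eq_iff_eq_mul.mp ?_
    calc g * (v * (g * v * g⁻¹)) * g⁻¹ = (g * v * g⁻¹) * ((g * g) * v * (g * g)⁻¹) := by group
      _ = (g * v * g⁻¹) * v := by rw [hgg]; group
      _ = v * (g * v * g⁻¹) := (commute_of_card_nine hP hw hv).eq
  obtain ⟨u, huN, hu⟩ := exists_mem_orderOf 2 (H := N) (by rw [hN36]; norm_num)
  set Cz := centralizer ({z} : Set G) with hCz
  have hzzP : ∀ w ∈ (P : Subgroup G), w ≠ 1 → orderOf w = 3 := by
    intro w hw hw1
    have h := Subgroup.orderOf_dvd_natCard _ hw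
    rw [hP] at h
    have := Nat.mem_divisors.mpr ⟨h, (by norm_num : (9 : ℕ) ≠ 0)⟩
    rw [show Nat.divisors 9 = {1, 3, 9} by decide] at this
    simp only [Finset.mem_insert, Finset.mem_singleton] at this
    rcases this with h1 | h1 | h1
    · exact absurd (orderOf_eq_one_iff.mp h1) hw1
    · exact h1
    · exfalso
      -- a cyclic Sylow subgroup would have `|N : C| ≤ 2`
      have hgen : (P : Subgroup G) = zpowers w :=
        (Subgroup.eq_of_le_of_card_ge (zpowers_le.mpr hw) (by rw [hP, Nat.card_zpowers, h1])).symm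
      haveI : IsCyclic (P : Subgroup G) := hgen ▸ Subgroup.isCyclic_zpowers w
      have key := card_dvd_of_injective _
        (QuotientGroup.kerLift_injective (P : Subgroup G).normalizerMonoidHom)
      rw [normalizerMonoidHom_ker, ← index, ← relIndex, IsCyclic.card_mulAut, hP,
        show Nat.totient 9 = 6 by decide] at key
      have hm := relIndex_mul_card_inf (centralizer ((P : Subgroup G) : Set G)) N
      have hle : centralizer ((P : Subgroup G) : Set G) ≤ (P : Subgroup G) := fun g hg =>
        hCP g fun v hv => (mem_centralizer_iff.mp hg v hv).symm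
      have h9 := card_dvd_of_le ((inf_le_left : centralizer ((P : Subgroup G) : Set G) ⊓ N ≤ _).trans hle)
      rw [hP] at h9
      rw [hN36] at hm
      have h4 : 4 ∣ (centralizer ((P : Subgroup G) : Set G)).relIndex N := by
        obtain ⟨q, hq⟩ := h9
        exact ⟨q, by nlinarith [Nat.card_pos (α := (centralizer ((P : Subgroup G) : Set G) ⊓ N :
          Subgroup G))]⟩
      have h46 : 4 ∣ 6 := h4.trans key
      omega
  by_cases hcase : 2 ∣ Nat.card (N ⊓ Cz : Subgroup G)
  · -- an involution of `N` centralizes `z`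
    obtain ⟨v, hv, hv2⟩ := exists_mem_orderOf 2 hcase
    have hvv : v ^ 2 = 1 := by rw [← hv2, pow_orderOf_eq_one]
    have hvz : Commute v z := mem_centralizer_singleton_iff.mp hv.2
    have hvP : v ∉ (P : Subgroup G) := fun h => by
      have := Subgroup.orderOf_dvd_natCard _ h
      rw [hv2, hP] at this; omega
    -- an inverted element
    obtain ⟨w, hwP, hw⟩ : ∃ w ∈ (P : Subgroup G), w ≠ 1 ∧ v * w * v⁻¹ = w⁻¹ := by
      obtain ⟨x, hxP, hx⟩ : ∃ x ∈ (P : Subgroup G), ¬ Commute v x := by
        by_contra hc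
        push Not at hc
        exact hvP (hCP v hc)
      refine ⟨x * (v * x * v⁻¹)⁻¹, (P : Subgroup G).mul_mem hxP
        (inv_mem ((mem_normalizer_iff.mp hv.1 x).mp hxP)), ?_, ?_⟩
      · intro h
        exact hx (mul_inv_eq_iff_eq_mul.mp (mul_inv_eq_one.mp h).symm)
      · have hvv' : v * v = 1 := by rw [← pow_two, hvv]
        calc v * (x * (v * x * v⁻¹)⁻¹) * v⁻¹ = (v * x * v⁻¹) * ((v * v) * x * (v * v)⁻¹)⁻¹ := by
              group
          _ = (v * x * v⁻¹) * x⁻¹ := by rw [hvv']; group
          _ = (x * (v * x * v⁻¹)⁻¹)⁻¹ := by group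
    have hPz : ∀ x ∈ (P : Subgroup G), Commute z x := fun x hx => commute_of_card_nine hP hzP hx
    have hwz : w ∉ zpowers z := by
      intro h
      obtain ⟨i, rfl⟩ := mem_zpowers_iff.mp h
      rw [(hvz.zpow_right i).eq, mul_inv_cancel_right] at hw
      have : (z ^ i) ^ 2 = 1 := by rw [pow_two]; nth_rw 2 [hw.2]; exact mul_inv_cancel _
      have h2 := orderOf_dvd_of_pow_eq_one this
      rw [hzzP _ hwP hw.1] at h2
      omega
    have hw3 := hzzP w hwP hw.1
    have hgen : zpowers z ⊔ zpowers w = (P : Subgroup G) :=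
      Subgroup.eq_of_le_of_card_ge (sup_le (zpowers_le.mpr hzP) (zpowers_le.mpr hwP))
        (by rw [hP, card_sup_three hG hz hw3 (hPz w hwP) hwz])
    -- conjugates of `v` under `N` act as `v`
    have hstable : ∀ g ∈ N, ∀ x ∈ (P : Subgroup G),
        (g * v * g⁻¹) * x * (g * v * g⁻¹)⁻¹ = v * x * v⁻¹ := by
      intro g hg
      haveI : ((P : Subgroup G).subgroupOf N).Normal := normal_in_normalizer
      have hq4 : Nat.card (N ⧸ (P : Subgroup G).subgroupOf N) = 2 ^ 2 := by
        have := ((P : Subgroup G).subgroupOf N).card_mul_index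
        rw [card_subgroupOf, inf_eq_left.mpr le_normalizer, hP, hN36, index_eq_card] at this
        norm_num
        omega
      haveI := IsPGroup.isMulCommutative_of_card_eq_prime_sq hq4
      have hcomm : ((⟨g * v * g⁻¹, N.mul_mem (N.mul_mem hg hv.1) (inv_mem hg)⟩ : N)⁻¹ *
          ⟨v, hv.1⟩) ∈ (P : Subgroup G).subgroupOf N := by
        rw [← QuotientGroup.eq]
        have h := IsMulCommutative.is_comm.comm
          ((⟨g, hg⟩ : N) : N ⧸ (P : Subgroup G).subgroupOf N)
          ((⟨v, hv.1⟩ : N) : N ⧸ (P : Subgroup G).subgroupOf N)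
        rw [show (⟨g * v * g⁻¹, N.mul_mem (N.mul_mem hg hv.1) (inv_mem hg)⟩ : N) =
          ⟨g, hg⟩ * ⟨v, hv.1⟩ * (⟨g, hg⟩ : N)⁻¹ from rfl, QuotientGroup.mk_mul, QuotientGroup.mk_mul,
          QuotientGroup.mk_inv, h, mul_inv_cancel_right]
      rw [mem_subgroupOf] at hcomm
      change (g * v * g⁻¹)⁻¹ * v ∈ (P : Subgroup G) at hcomm
      intro x hx
      set v' := g * v * g⁻¹ with hv'
      set p := v'⁻¹ * v with hp
      calc v' * x * v'⁻¹ = v' * (p * x * p⁻¹) * v'⁻¹ := by
            rw [(commute_of_card_nine hP hcomm hx).eq, mul_inv_cancel_right]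
        _ = v * x * v⁻¹ := by rw [hp]; group
    -- `N` stabilizes both lines
    have hfixline : ∀ x ∈ (P : Subgroup G), v * x * v⁻¹ = x → x ∈ zpowers z := by
      intro x hx hfx
      by_contra hxz
      have hx1 : x ≠ 1 := fun h => hxz (h ▸ one_mem _)
      have hfull : zpowers z ⊔ zpowers x = (P : Subgroup G) :=
        Subgroup.eq_of_le_of_card_ge (sup_le (zpowers_le.mpr hzP) (zpowers_le.mpr hx))
          (by rw [hP, card_sup_three hG hz (hzzP x hx hx1) (hPz x hx) hxz])
      refine hvP (hCP v fun y hy => ?_)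
      have hle : (P : Subgroup G) ≤ centralizer ({v} : Set G) := hfull ▸ sup_le
        (zpowers_le.mpr (mem_centralizer_singleton_iff.mpr hvz.symm.eq))
        (zpowers_le.mpr (mem_centralizer_singleton_iff.mpr (mul_inv_eq_iff_eq_mul.mp hfx).symm))
      exact (mem_centralizer_singleton_iff.mp (hle hy)).symm
    have hz_inv : ∀ g ∈ N, g * z * g⁻¹ ∈ zpowers z := by
      intro g hg
      refine hfixline _ ((mem_normalizer_iff.mp hg z).mp hzP) ?_
      rw [← hstable g hg _ ((mem_normalizer_iff.mp hg z).mp hzP)]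
      calc g * v * g⁻¹ * (g * z * g⁻¹) * (g * v * g⁻¹)⁻¹ = g * (v * z * v⁻¹) * g⁻¹ := by group
        _ = g * z * g⁻¹ := by rw [hvz.eq, mul_inv_cancel_right]
    have hw_inv : ∀ g ∈ N, v * (g * w * g⁻¹) * v⁻¹ = (g * w * g⁻¹)⁻¹ := by
      intro g hg
      rw [← hstable g hg _ ((mem_normalizer_iff.mp hg w).mp hwP)]
      calc g * v * g⁻¹ * (g * w * g⁻¹) * (g * v * g⁻¹)⁻¹ = g * (v * w * v⁻¹) * g⁻¹ := by group
        _ = (g * w * g⁻¹)⁻¹ := by rw [hw.2]; group
    -- the inverted elements form `⟨w⟩`
    have hinvline : ∀ x ∈ (P : Subgroup G), v * x * v⁻¹ = x⁻¹ → x ∈ zpowers w := by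
      intro x hx hix
      by_contra hxw
      have hx1 : x ≠ 1 := fun h => hxw (h ▸ one_mem _)
      have hfull : zpowers w ⊔ zpowers x = (P : Subgroup G) :=
        Subgroup.eq_of_le_of_card_ge (sup_le (zpowers_le.mpr hwP) (zpowers_le.mpr hx))
          (by rw [hP, card_sup_three hG hw3 (hzzP x hx hx1) (commute_of_card_nine hP hwP hx) hxw])
      -- everything, so `z`, would be inverted
      let I : Subgroup G :=
        { carrier := {y | y ∈ (P : Subgroup G) ∧ v * y * v⁻¹ = y⁻¹}
          one_mem' := ⟨one_mem _, by group⟩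
          mul_mem' := fun {a b} ha hb => ⟨(P : Subgroup G).mul_mem ha.1 hb.1, by
            rw [show v * (a * b) * v⁻¹ = (v * a * v⁻¹) * (v * b * v⁻¹) by group, ha.2, hb.2,
              (commute_of_card_nine hP (inv_mem ha.1) (inv_mem hb.1)).eq, ← mul_inv_rev]⟩
          inv_mem' := fun {a} ha => ⟨inv_mem ha.1, by
            rw [show v * a⁻¹ * v⁻¹ = (v * a * v⁻¹)⁻¹ by group, ha.2]⟩ }
      have hzI : z ∈ I := (sup_le (zpowers_le.mpr (show w ∈ I from ⟨hwP, hw.2⟩))
        (zpowers_le.mpr (show x ∈ I from ⟨hx, hix⟩))) (hfull.symm ▸ hzP)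
      have h' : v * z * v⁻¹ = z⁻¹ := hzI.2
      rw [hvz.eq, mul_inv_cancel_right] at h'
      have h2 : z ^ 2 = 1 := by rw [pow_two]; nth_rw 2 [h']; exact mul_inv_cancel z
      have := orderOf_dvd_of_pow_eq_one h2
      rw [hz] at this; omega
    -- some element of `N` outside `P` centralizes `w`
    have hall : ∀ g ∈ N, (g * z * g⁻¹ = z ∨ g * z * g⁻¹ = z⁻¹) ∧
        (g * w * g⁻¹ = w ∨ g * w * g⁻¹ = w⁻¹) := by
      intro g hg
      constructor
      · refine (mem_zpowers_three hz (hz_inv g hg)).resolve_left fun h => ?_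
        rw [conj_eq_one_iff] at h
        rw [h, orderOf_one] at hz; omega
      · refine (mem_zpowers_three hw3 (hinvline _ ((mem_normalizer_iff.mp hg w).mp hwP)
          (hw_inv g hg))).resolve_left fun h => ?_
        rw [conj_eq_one_iff] at h
        exact hw.1 h
    set Cw := centralizer ({w} : Set G)
    have hKw : 2 ∣ Nat.card (N ⊓ Cw : Subgroup G) := by
      have hle := card_le_orbit_mul (N := N) (C := N ⊓ Cw) (z := w) (S := ({w, w⁻¹} : Set G))
        (fun g hg h => ⟨hg, mem_centralizer_singleton_iff.mpr h⟩)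
        (fun g hg => by
          rcases (hall g hg).2 with h | h <;> rw [h] <;> simp)
      have hS2 : Nat.card ({w, w⁻¹} : Set G) ≤ 2 := by
        rw [Nat.card_coe_set_eq]
        exact (Set.ncard_insert_le _ _).trans (by rw [Set.ncard_singleton])
      have hd := card_dvd_of_le (inf_le_left : N ⊓ Cw ≤ N)
      rw [hN36] at hd
      have h18 : 18 ≤ Nat.card (N ⊓ Cw : Subgroup G) := by
        rw [hN36] at hle
        nlinarith
      by_contra hodd
      have h9 : Nat.card (N ⊓ Cw : Subgroup G) ∈ Nat.divisors 36 :=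
        Nat.mem_divisors.mpr ⟨hd, by norm_num⟩
      rw [show Nat.divisors 36 = {1, 2, 3, 4, 6, 9, 12, 18, 36} by decide] at h9
      simp only [Finset.mem_insert, Finset.mem_singleton] at h9
      omega
    obtain ⟨s, hs, hs2⟩ := exists_mem_orderOf 2 hKw
    have hsw : Commute w s := (mem_centralizer_singleton_iff.mp hs.2).symm
    rcases hfus w hw3 s hs2 hsw with h | h
    · obtain ⟨n, hn, hne⟩ := hburn w hwP h
      exact hwz (hne ▸ hz_inv n hn)
    · obtain ⟨n, hn, hne⟩ := hburn w⁻¹ (inv_mem hwP) h
      exact hwz (inv_mem_iff.mp (hne ▸ hz_inv n hn))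
  · -- no involution of `N` centralizes a conjugate of `z`
    have hno : ∀ e ∈ (P : Subgroup G), orderOf e = 3 → ∀ s ∈ N, orderOf s = 2 → ¬ Commute e s := by
      intro e heP he s hsN hs hes
      have : ∀ f ∈ (P : Subgroup G), IsConj z f → Commute f s → False := by
        intro f hf hzf hfs
        obtain ⟨n, hn, rfl⟩ := hburn f hf hzf
        refine hcase ?_
        have hmem : n⁻¹ * s * n ∈ N ⊓ Cz := by
          refine ⟨N.mul_mem (N.mul_mem (inv_mem hn) hsN) hn, mem_centralizer_singleton_iff.mpr ?_⟩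
          calc n⁻¹ * s * n * z = n⁻¹ * (s * (n * z * n⁻¹)) * n := by group
            _ = n⁻¹ * ((n * z * n⁻¹) * s) * n := by rw [hfs.eq]
            _ = z * (n⁻¹ * s * n) := by group
        have := Subgroup.orderOf_dvd_natCard _ hmem
        rwa [show n⁻¹ * s * n = MulAut.conj n⁻¹ s by simp, MulEquiv.orderOf_eq, hs] at this
      rcases hfus e he s hs hes with h | h
      · exact this e heP h hes
      · exact this e⁻¹ (inv_mem heP) h hes.inv_left
    -- `u` inverts `z`
    have hu2 : u ^ 2 = 1 := by rw [← hu, pow_orderOf_eq_one]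
    have huinv : ∀ x ∈ (P : Subgroup G), u * x * u⁻¹ = x⁻¹ := by
      intro x hx
      by_contra hne
      have hmem : x * (u * x * u⁻¹) ∈ (P : Subgroup G) :=
        (P : Subgroup G).mul_mem hx ((mem_normalizer_iff.mp huN x).mp hx)
      refine hno _ hmem (hzzP _ hmem fun h => hne (eq_inv_of_mul_eq_one_right h)) u huN hu ?_
      exact (hsquare u huN hu2 x hx).symm
    have hzinv : IsConj z z⁻¹ := isConj_iff.mpr ⟨u, huinv z hzP⟩
    -- the centralizer of `z`
    obtain ⟨⟨j, hj⟩, h144⟩ := centralizer_three_dvd hG hz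
    have h2C : 2 ∣ Nat.card Cz := by
      have := Subgroup.orderOf_dvd_natCard _
        (mem_centralizer_singleton_iff.mpr (mem_centralizer_singleton_iff.mp hzt).symm : t ∈ Cz)
      rwa [ht] at this
    have hPC : (P : Subgroup G) ≤ Cz := fun v hv => mem_centralizer_singleton_iff.mpr
      (commute_of_card_nine hP hv hzP).eq
    have hNC : N ⊓ Cz = (P : Subgroup G) := by
      refine (Subgroup.eq_of_le_of_card_ge (le_inf le_normalizer hPC) ?_).symm
      obtain ⟨i, hi⟩ := hP ▸ card_dvd_of_le (le_inf le_normalizer hPC : (P : Subgroup G) ≤ N ⊓ Cz)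
      have hd := card_dvd_of_le (inf_le_left : N ⊓ Cz ≤ N)
      rw [hN36, hi] at hd
      have hi4 : i ∣ 4 := Nat.dvd_of_mul_dvd_mul_left (by norm_num : 0 < 9)
        (show 9 * i ∣ 9 * 4 by simpa using hd)
      have := Nat.mem_divisors.mpr ⟨hi4, (by norm_num : (4 : ℕ) ≠ 0)⟩
      rw [show Nat.divisors 4 = {1, 2, 4} by decide] at this
      simp only [Finset.mem_insert, Finset.mem_singleton] at this
      rw [hP, hi]
      rw [hi] at hcase
      omega
    have h27 : ¬ 3 ^ (2 + 1) ∣ Nat.card Cz := fun h => by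
      have := h.trans h144; norm_num at this
    have hsyl := card_sylow_subgroup (p := 3) (k := 2) hPC (by rw [hP]; norm_num) h27
    have hmod := card_sylow_modEq_one 3 Cz
    rw [hsyl, Nat.ModEq] at hmod
    have hrel := relIndex_mul_card_inf N Cz
    rw [hNC, hP] at hrel
    have hN2 : Nat.card (normalizer ((zpowers z : Subgroup G) : Set G)) = 2 * Nat.card Cz := by
      obtain ⟨e, he, hNe⟩ := card_normalizer_zpowers_eq hz
      rcases (Nat.dvd_prime Nat.prime_two).mp he with rfl | rfl
      · exfalso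
        rw [one_mul] at hNe
        have heq : centralizer ({z} : Set G) = normalizer ((zpowers z : Subgroup G) : Set G) :=
          Subgroup.eq_of_le_of_card_ge (fun g hg => centralizer_le_normalizer' (zpowers z) (by
            rw [zpowers_eq_closure, centralizer_closure]; exact hg)) hNe.le
        have humem : u ∈ normalizer ((zpowers z : Subgroup G) : Set G) := by
          rw [mem_normalizer_iff_map_conj_eq, MonoidHom.map_zpowers]
          exact (congrArg zpowers (huinv z hzP : MulAut.conj u z = z⁻¹)).trans zpowers_inv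
        rw [← heq] at humem
        exact hcase (by
          have := Subgroup.orderOf_dvd_natCard (N ⊓ Cz) ⟨huN, humem⟩
          rwa [hu] at this)
      · exact hNe
    have hd7920 := card_subgroup_dvd_card (normalizer ((zpowers z : Subgroup G) : Set G))
    rw [hN2, hG.2] at hd7920
    -- so `|C(z)| = 36`
    have h36 : Nat.card Cz = 36 := by
      rw [hj] at h144
      have hd : j ∣ 16 := Nat.dvd_of_mul_dvd_mul_left (by norm_num : 0 < 9)
        (show 9 * j ∣ 9 * 16 by simpa using h144)
      have := Nat.mem_divisors.mpr ⟨hd, (by norm_num : (16 : ℕ) ≠ 0)⟩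
      rw [show Nat.divisors 16 = {1, 2, 4, 8, 16} by decide] at this
      simp only [Finset.mem_insert, Finset.mem_singleton] at this
      have hj' : Nat.card Cz = 9 * j := hj
      have hne16 : j ≠ 16 := by
        rintro rfl
        rw [hj'] at hd7920
        norm_num at hd7920
      replace hmod : N.relIndex Cz % 3 = 1 % 3 := hmod
      omega
    -- a normal complement of order four
    have h9 : ¬ 3 ^ (2 + 1) ∣ Nat.card Cz := h27
    obtain ⟨Q, hQ⟩ := exists_sylow_eq (G := Cz) (p := 3) (k := 2)
      (H := (P : Subgroup G).subgroupOf Cz)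
      (by rw [card_subgroupOf, inf_eq_left.mpr hPC, hP]; norm_num) h9
    have hle : normalizer ((Q : Subgroup Cz) : Set Cz) ≤ centralizer ((Q : Subgroup Cz) : Set Cz) := by
      intro g hg
      rw [hQ] at hg ⊢
      rw [← subgroupOf_normalizer_eq hPC, mem_subgroupOf] at hg
      refine mem_centralizer_iff.mpr fun v hv => Subtype.ext ?_
      have hgP : (g : G) ∈ (P : Subgroup G) := hNC ▸ (⟨hg, g.2⟩ : (g : G) ∈ N ⊓ Cz)
      exact (commute_of_card_nine hP (mem_subgroupOf.mp hv) hgP).eq
    have hcompl := MonoidHom.ker_transferSylow_isComplement' Q hle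
    set K := (MonoidHom.transferSylow Q hle).ker with hK
    have hK4 := hcompl.card_mul_card
    rw [hQ, card_subgroupOf, inf_eq_left.mpr hPC, hP, h36] at hK4
    have hQc : Nat.card (Q : Subgroup Cz) = 9 := by
      rw [hQ, card_subgroupOf, inf_eq_left.mpr hPC, hP]
    have hinvK : ∀ x : Cz, orderOf x = 2 → x ∈ K := fun x hx => by
      rw [hK, MonoidHom.mem_ker, ← orderOf_eq_one_iff]
      have h1 : orderOf (MonoidHom.transferSylow Q hle x) ∣ 2 := hx ▸ orderOf_map_dvd _ x
      have h2 := orderOf_dvd_natCard (MonoidHom.transferSylow Q hle x)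
      rw [hQc] at h2
      exact Nat.eq_one_of_dvd_coprimes (by norm_num : Nat.Coprime 2 9) h1 h2
    -- conjugates of `z` in `C(t)`
    set H := centralizer ({t} : Set G) with hH
    have hA : Nat.card {g : G // IsConj z g ∧ g ∈ H} = Nat.card (Sylow 3 H) * 2 := by
      obtain ⟨Q0, hQ0⟩ := exists_sylow_eq (G := H) (p := 3) (k := 1) (H := (zpowers z).subgroupOf H)
        (by rw [card_subgroupOf, inf_eq_left.mpr (zpowers_le.mpr hzt), Nat.card_zpowers, hz, pow_one])
        (by rw [hCt]; norm_num)
      rw [← card_orderOf_eq_prime Q0 (by rw [hQ0, card_subgroupOf,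
        inf_eq_left.mpr (zpowers_le.mpr hzt), Nat.card_zpowers, hz])]
      refine Nat.card_congr
        { toFun := fun g => ⟨⟨g.1, g.2.2⟩, ?_⟩
          invFun := fun g => ⟨g.1.1, ?_, g.1.2⟩
          left_inv := fun g => rfl
          right_inv := fun g => rfl }
      · obtain ⟨c, hc⟩ := isConj_iff.mp g.2.1
        rw [Subgroup.orderOf_mk, ← hc, ← MulAut.conj_apply, MulEquiv.orderOf_eq, hz]
      · rcases hfus g.1.1 (by rw [Subgroup.orderOf_coe, g.2]) t ht
          (mem_centralizer_singleton_iff.mp g.1.2) with h | h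
        · exact h
        · obtain ⟨c, hc⟩ := isConj_iff.mp h
          refine hzinv.trans (isConj_iff.mpr ⟨c, ?_⟩)
          rw [← conj_inv, hc, inv_inv]
    have hcount := card_fixedBy_mul_card_conj H z
    have hclass : Nat.card {g : G // IsConj z g} = 220 := by
      have e : (G ⧸ Cz) ≃ {g : G // IsConj z g} :=
        Equiv.ofBijective (fun a => ⟨conjAt z a, isConj_iff.mpr ⟨a.out, rfl⟩⟩)
          ⟨fun a b h => conjAt_injective z (congrArg Subtype.val h), fun g => by
            obtain ⟨c, hc⟩ := isConj_iff.mp g.2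
            refine ⟨(c : G ⧸ Cz), Subtype.ext ?_⟩
            show conjAt z (c : G ⧸ Cz) = g.1
            have h := QuotientGroup.eq.mp (QuotientGroup.out_eq' (c : G ⧸ Cz)).symm
            rw [hCz, mem_centralizer_singleton_iff] at h
            rw [← hc, conjAt]
            set d := (c : G ⧸ Cz).out
            calc d * z * d⁻¹ = c * (c⁻¹ * d * z) * d⁻¹ := by group
              _ = c * (z * (c⁻¹ * d)) * d⁻¹ := by rw [h]
              _ = c * z * c⁻¹ := by group⟩
      rw [← Nat.card_congr e, ← index_eq_card]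
      have := Cz.card_mul_index
      rw [h36, hG.2] at this
      omega
    have hidx : H.index = 165 := by
      have := H.card_mul_index
      rw [hCt, hG.2] at this
      omega
    have hfix3 : Nat.card (fixedBy (G ⧸ H) z) ≤ 3 := by
      have hle4 : Nat.card {x : Cz // orderOf x = 2} ≤ 3 := by
        have hK1 : Nat.card K = 4 := by omega
        have h := Nat.card_le_card_of_injective
          (fun o : Option {x : Cz // orderOf x = 2} =>
            (o.elim (1 : K) fun x => ⟨x.1, hinvK x.1 x.2⟩))
          (by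
            intro a b h
            cases a with
            | none =>
              cases b with
              | none => rfl
              | some x =>
                have hx := x.2
                rw [← show (1 : Cz) = x.1 from congrArg Subtype.val h, orderOf_one] at hx
                omega
            | some x =>
              cases b with
              | none =>
                have hx := x.2
                rw [show x.1 = (1 : Cz) from congrArg Subtype.val h, orderOf_one] at hx
                omega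
              | some x' => exact congrArg some (Subtype.ext (congrArg Subtype.val h :)))
        rw [Finite.card_option, hK1] at h
        omega
      refine le_trans (Nat.card_le_card_of_injective (fun a => ⟨⟨conjAt t a.1,
        mem_centralizer_singleton_iff.mpr ((smul_eq_iff_commute t z a.1).mp a.2).symm.eq⟩, by
        rw [Subgroup.orderOf_mk, orderOf_conjAt, ht]⟩) ?_) hle4
      intro a b h
      exact Subtype.ext (conjAt_injective t
        (congrArg (fun x : {x : Cz // orderOf x = 2} => ((x.1 : Cz) : G)) h))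
    have hn3 : Nat.card (Sylow 3 H) = 1 ∨ Nat.card (Sylow 3 H) = 4 := by
      have hs := card_sylow_subgroup (p := 3) (k := 1) (M := H) (zpowers_le.mpr hzt)
        (by rw [Nat.card_zpowers, hz, pow_one]) (by rw [hCt]; norm_num)
      have hm := relIndex_mul_card_inf (normalizer ((zpowers z : Subgroup G) : Set G)) H
      rw [← hs, hCt] at hm
      have h6 : 6 ∣ Nat.card (normalizer ((zpowers z : Subgroup G) : Set G) ⊓ H : Subgroup G) := by
        refine Nat.Coprime.mul_dvd_of_dvd_of_dvd (by norm_num : Nat.Coprime 3 2) ?_ ?_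
        · rw [← hz]
          exact Subgroup.orderOf_dvd_natCard _ ⟨le_normalizer (mem_zpowers z), hzt⟩
        · rw [← ht]
          exact Subgroup.orderOf_dvd_natCard _ ⟨centralizer_le_normalizer' (zpowers z) (by
            rw [zpowers_eq_closure, centralizer_closure]
            exact mem_centralizer_singleton_iff.mpr (mem_centralizer_singleton_iff.mp hzt).symm),
            mem_centralizer_singleton_iff.mpr rfl⟩
      obtain ⟨i, hi⟩ := h6
      rw [hi] at hm
      have hmod3 := card_sylow_modEq_one 3 H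
      rw [Nat.ModEq] at hmod3
      have h8 : Nat.card (Sylow 3 H) ∈ Nat.divisors 8 :=
        Nat.mem_divisors.mpr ⟨Dvd.intro i (by linarith), by norm_num⟩
      rw [show Nat.divisors 8 = {1, 2, 4, 8} by decide] at h8
      simp only [Finset.mem_insert, Finset.mem_singleton] at h8
      omega
    rw [hclass, hidx, hA] at hcount
    omega

/-- Sylow 3-normalizers have order 144. -/
theorem card_normalizer_sylow_three (hG : IsM11 G) [Fact (Nat.Prime 3)] (P : Sylow 3 G) :
    Nat.card (normalizer ((P : Subgroup G) : Set G)) = 144 := by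
  have := card_normalizer_sylow_mul P
  rw [card_sylow_three hG, hG.2] at this
  omega

end Cfsg.Agent.Lib.Order7920
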